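import Groth.Agent.JetVanLib.Jets
import Groth.Agent.DegDevLib.Det
import Groth.Agent.ProjTwistLib.Lift
import Groth.Agent.ProjBundleLib.Exist
import Groth.Prelude.Def_CohB1

/-!
# Functionals on tensor powers by products
-/

set_option autoImplicit false
set_option linter.style.haveILetI false
set_option linter.unusedSectionVars false
set_option backward.isDefEq.respectTransparency false
set_option maxHeartbeats 1000000

universe u

open CategoryTheory CategoryTheory.Limits AlgebraicGeometry TopologicalSpace Opposite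
open Groth.Agent.OmegaDimLib Groth.Agent.PullbackMod Groth.Agent.DCohLib
open Groth.Agent.DegDevLib (IsFrame)

noncomputable section

namespace Groth.Agent.JetVanLib

variable {k : Type u} [Field k] [IsAlgClosed k] {P X : Scheme.{u}} {sP : P ⟶ Spec (CommRingCat.of k)}
  [LocallyOfFiniteType sP] {f : P ⟶ X} {F E : X.Modules}

/-- The products of two frames form a frame of the tensor product. -/
theorem isFrame_pairS {n m : ℕ} {U : X.Opens} {e : Fin n → Γ(F, U)} (he : IsFrame U e) {e' : Fin m → Γ(E, U)}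
    (he' : IsFrame U e') :
    IsFrame (E := tmod F E) U fun a => pairS F E (e (finProdFinEquiv.symm a).1) (e' (finProdFinEquiv.symm a).2) := by
  classical
  intro y hy
  let b := Module.Basis.ofEquivFun (LinearEquiv.ofBijective _ (he y hy)).symm
  let b' := Module.Basis.ofEquivFun (LinearEquiv.ofBijective _ (he' y hy)).symm
  let B := ((b.tensorProduct b').map (stalkTensor y F E)).reindex finProdFinEquiv
  have hB : ∀ a, B a = (tmod F E).presheaf.germ U y hy
      (pairS F E (e (finProdFinEquiv.symm a).1) (e' (finProdFinEquiv.symm a).2)) := fun a => by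
    simp only [B, Module.Basis.reindex_apply, Module.Basis.map_apply, Module.Basis.tensorProduct_apply']
    rw [AmpleLib.germ_pairS]
    congr 1
    simp [b, b', Module.Basis.coe_ofEquivFun, Fintype.linearCombination_apply_single]
  have e0 : ⇑(Fintype.linearCombination (X.presheaf.stalk y) fun a => (tmod F E).presheaf.germ U y hy
      (pairS F E (e (finProdFinEquiv.symm a).1) (e' (finProdFinEquiv.symm a).2))) = ⇑B.equivFun.symm := by
    funext c
    rw [Fintype.linearCombination_apply, B.equivFun_symm_apply]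
    exact Finset.sum_congr rfl fun a _ => congrArg (c a • ·) (hB a).symm
  rw [e0]
  exact B.equivFun.symm.bijective

/-- The product of two functionals. -/
def prodPairing (θ : Fun f F) (θ' : Fun f E) :
    ProjTwistLib.Pairing F E ((Scheme.Modules.pushforward f).obj (Coh.structureModule P)) where
  f U := AddMonoidHom.mk' (fun a => AddMonoidHom.mk' (fun b => (tv f θ U a * tv f θ' U b : Γ(P, f ⁻¹ᵁ U)))
      (fun b c => by rw [tv_add, mul_add]))
    (fun a c => AddMonoidHom.ext fun b => by
      show tv f θ U (a + c) * _ = _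
      rw [tv_add, add_mul]
      rfl)
  smul_left U r a b := by
    show tv f θ U (r • a) * tv f θ' U b = f.app U r * (tv f θ U a * tv f θ' U b)
    rw [tv_smul, mul_assoc]
  smul_right U r a b := by
    show tv f θ U a * tv f θ' U (r • b) = f.app U r * (tv f θ U a * tv f θ' U b)
    rw [tv_smul, mul_left_comm]
  fres {U V} h a b := by
    show tv f θ V _ * tv f θ' V _ =
      P.presheaf.map (homOfLE (show f ⁻¹ᵁ V ≤ f ⁻¹ᵁ U from fun _ hx => h hx)).op (tv f θ U a * tv f θ' U b)
    rw [map_mul, tv_res f θ h, tv_res f θ' h]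

theorem tv_lift (θ : Fun f F) (θ' : Fun f E) (U : X.Opens) (a : Γ(F, U)) (b : Γ(E, U)) :
    tv f (show Fun f (tmod F E) from (prodPairing θ θ').lift) U (pairS F E a b) = tv f θ U a * tv f θ' U b :=
  (prodPairing θ θ').lift_pairS a b

/-- Products of jointly injective families are jointly injective. -/
theorem thInj_lift {ι ι' : Type} (θ : ι → Fun f F) (θ' : ι' → Fun f E) {V : X.Opens} {n m : ℕ}
    {e : Fin n → Γ(F, V)} {e' : Fin m → Γ(E, V)} {q : P} (h : ThInj sP θ V e q) (h' : ThInj sP θ' V e' q) :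
    ThInj sP (fun L : ι × ι' => (show Fun f (tmod F E) from (prodPairing (θ L.1) (θ' L.2)).lift)) V
      (fun a => pairS F E (e (finProdFinEquiv.symm a).1) (e' (finProdFinEquiv.symm a).2)) q := by
  intro p hp hpV hpq lam hlam
  funext c
  obtain ⟨⟨a, b⟩, rfl⟩ := finProdFinEquiv.surjective c
  let w : ι' → Fin n → k := fun L' a => ∑ b, lam (finProdFinEquiv (a, b)) *
    evk sP hp (show p ∈ f ⁻¹ᵁ V from hpV) (tv f (θ' L') V (e' b))
  have hw : ∀ L', w L' = 0 := fun L' => h p hp hpV hpq _ fun L => by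
    refine Eq.trans ?_ (hlam (L, L'))
    rw [← finProdFinEquiv.sum_comp, Fintype.sum_prod_type]
    refine Finset.sum_congr rfl fun a _ => ?_
    simp only [w, Finset.sum_mul, tv_lift, map_mul, Equiv.symm_apply_apply]
    exact Finset.sum_congr rfl fun b _ => by ring
  exact congrFun (h' p hp hpV hpq (fun b => lam (finProdFinEquiv (a, b))) fun L' => congrFun (hw L') a) b

/-- The functional of the functions themselves. -/
theorem exists_unitFun : ∃ θ : Fun f (Coh.structureModule X),
    ∀ (U : X.Opens), IsAffineOpen U → ∀ a : Γ(X, U), tv f θ U a = f.app U a := by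
  obtain ⟨θ, hθ⟩ := ProjBundleLib.exists_hom_of_affine (E := Coh.structureModule X)
    (N := (Scheme.Modules.pushforward f).obj (Coh.structureModule P)) (fun U => (f.app U.1).hom.toAddMonoidHom)
    (fun U hU r e => (ConcreteCategory.congr_hom (f.naturality (homOfLE (X.basicOpen_le r)).op) e).symm)
    (fun U a e => map_mul (f.app U.1).hom a e)
  exact ⟨θ, fun U hU a => hθ U hU a⟩

/-- Functionals on tensor powers. -/
theorem exists_tensorFun {ι : Type} (θ : ι → Fun f E) {q : P} (hq : IsClosed ({q} : Set P))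
    (hθq : ∀ (L : ι) (V : X.Opens) (hV : f q ∈ V) (s : Γ(E, V)),
      evk sP hq (show q ∈ f ⁻¹ᵁ V from hV) (tv f (θ L) V s) = 0)
    (hchart : ∀ x : X, ∃ (V : X.Opens) (n : ℕ) (e : Fin n → Γ(E, V)),
      IsAffineOpen V ∧ x ∈ V ∧ IsFrame V e ∧ ThInj sP θ V e q) (m : ℕ) :
    ∃ (κ : Type) (Θ : κ → Fun f (CohB1.tensorPow E m)),
      (1 ≤ m → ∀ (L : κ) (V : X.Opens) (hV : f q ∈ V) (s : Γ(CohB1.tensorPow E m, V)),
        evk sP hq (show q ∈ f ⁻¹ᵁ V from hV) (tv f (Θ L) V s) = 0) ∧
      ∀ (V : X.Opens) (_ : IsAffineOpen V) {n : ℕ} (e : Fin n → Γ(E, V)) (_ : IsFrame V e), ThInj sP θ V e q →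
        ∃ (n' : ℕ) (e' : Fin n' → Γ(CohB1.tensorPow E m, V)), IsFrame V e' ∧ ThInj sP Θ V e' q := by
  induction m with
  | zero =>
    obtain ⟨θ₀, hθ₀⟩ := exists_unitFun (f := f)
    refine ⟨Unit, fun _ => θ₀, fun h => absurd h (by omega), fun V hV n e _ _ => ?_⟩
    refine ⟨1, fun _ => (1 : Γ(X, V)), DegDevLib.gen_frame (ParaFLib.gen_one V), fun p hp hpV hpq lam hlam => ?_⟩
    funext a
    have h := hlam ()
    rw [Fin.sum_univ_one, hθ₀ V hV, map_one, map_one, mul_one] at h
    rw [Subsingleton.elim a 0, h]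
    rfl
  | succ m ih =>
    obtain ⟨κ, Θ, -, hΘ⟩ := ih
    refine ⟨κ × ι, fun L => (show Fun f (tmod (CohB1.tensorPow E m) E) from (prodPairing (Θ L.1) (θ L.2)).lift),
      fun _ L V hV s => ?_, fun V hV n e he ht => ?_⟩
    · obtain ⟨V₀, n, e, hV₀, hqV₀, he, ht⟩ := hchart (f q)
      obtain ⟨n', e', he', -⟩ := hΘ V₀ hV₀ e he ht
      let W := V ⊓ V₀
      let s' : Γ(tmod (CohB1.tensorPow E m) E, W) :=
        (tmod (CohB1.tensorPow E m) E).presheaf.map (homOfLE (inf_le_left : W ≤ V)).op s
      obtain ⟨c, hc⟩ := (isFrame_pairS (he'.res (inf_le_right : W ≤ V₀)) (he.res (inf_le_right : W ≤ V₀))).bijective.2 s'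
      rw [Fintype.linearCombination_apply] at hc
      rw [← evk_res sP hq (show q ∈ f ⁻¹ᵁ W from ⟨hV, hqV₀⟩)
        (show f ⁻¹ᵁ W ≤ f ⁻¹ᵁ V from fun _ hx => hx.1)]
      refine (congrArg (evk sP hq _) (tv_res f _ (inf_le_left : W ≤ V) s).symm).trans ?_
      show evk sP hq _ (tv f _ W s') = 0
      rw [← hc, tv_sum, map_sum]
      refine Finset.sum_eq_zero fun a _ => ?_
      rw [tv_smul, map_mul, tv_lift, map_mul, hθq L.2 W ⟨hV, hqV₀⟩, mul_zero, mul_zero]
    · obtain ⟨n', e', he', ht'⟩ := hΘ V hV e he ht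
      exact ⟨_, _, isFrame_pairS he' he, thInj_lift Θ θ ht' ht⟩

end Groth.Agent.JetVanLib
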