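import Groth.Agent.JetVanLib.Jets
import Groth.Agent.DegDevLib.Wedge
import Groth.Agent.SFFLib.Chart
import Groth.Agent.ExtPowLib.Exist
import Groth.Agent.ProjBundleLib.Exist
import Mathlib.LinearAlgebra.ExteriorPower.Basis

/-!
# Functionals on exterior powers by minors
-/

set_option autoImplicit false
set_option linter.style.haveILetI false
set_option linter.unusedSectionVars false
set_option backward.isDefEq.respectTransparency false
set_option maxHeartbeats 1000000

universe u

open CategoryTheory CategoryTheory.Limits AlgebraicGeometry TopologicalSpace Opposite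
open Groth.Agent.OmegaDimLib
open Groth.Agent.DegDevLib (IsFrame wsec)

noncomputable section

namespace Groth.Agent.JetVanLib

variable {k : Type u} [Field k] [IsAlgClosed k] {P X : Scheme.{u}} (sP : P ⟶ Spec (CommRingCat.of k))
  [LocallyOfFiniteType sP] (f : P ⟶ X) {F E : X.Modules} {r p : ℕ}

/-- The minor of the values of functionals at sections. -/
def minor (u : Fin r → Fun f F) (L : Fin p → Fin r) (U : X.Opens) (s : Fin p → Γ(F, U)) : Γ(P, f ⁻¹ᵁ U) :=
  Matrix.det (Matrix.of fun i j => tv f (u (L j)) U (s i))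

theorem minor_res (u : Fin r → Fun f F) (L : Fin p → Fin r) {U V : X.Opens} (h : V ≤ U) (s : Fin p → Γ(F, U)) :
    P.presheaf.map (homOfLE (show f ⁻¹ᵁ V ≤ f ⁻¹ᵁ U from fun _ hx => h hx)).op (minor f u L U s) =
      minor f u L V fun i => F.presheaf.map (homOfLE h).op (s i) := by
  rw [minor, RingHom.map_det]
  refine congrArg Matrix.det (Matrix.ext fun i j => ?_)
  exact (tv_res f (u (L j)) h (s i)).symm

theorem minor_update_add (u : Fin r → Fun f F) (L : Fin p → Fin r) (U : X.Opens) [DecidableEq (Fin p)]
    (s : Fin p → Γ(F, U)) (i : Fin p) (x y : Γ(F, U)) :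
    minor f u L U (Function.update s i (x + y)) = minor f u L U (Function.update s i x) + minor f u L U (Function.update s i y) := by
  have e : ∀ z, (Matrix.of fun a j => tv f (u (L j)) U (Function.update s i z a)) =
      (Matrix.of fun a j => tv f (u (L j)) U (s a)).updateRow i fun j => tv f (u (L j)) U z := fun z => by
    ext a j
    by_cases h : a = i <;> simp [Matrix.updateRow_apply, h]
  simp only [minor, e, tv_add]
  convert Matrix.det_updateRow_add (Matrix.of fun a j => tv f (u (L j)) U (s a)) i
    (fun j => tv f (u (L j)) U x) (fun j => tv f (u (L j)) U y) using 2 <;> congr 1 <;> subsingleton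

theorem minor_update_smul (u : Fin r → Fun f F) (L : Fin p → Fin r) (U : X.Opens) [DecidableEq (Fin p)]
    (s : Fin p → Γ(F, U)) (i : Fin p) (c : Γ(X, U)) (x : Γ(F, U)) :
    minor f u L U (Function.update s i (c • x)) = f.app U c * minor f u L U (Function.update s i x) := by
  have e : ∀ z, (Matrix.of fun a j => tv f (u (L j)) U (Function.update s i z a)) =
      (Matrix.of fun a j => tv f (u (L j)) U (s a)).updateRow i fun j => tv f (u (L j)) U z := fun z => by
    ext a j
    by_cases h : a = i <;> simp [Matrix.updateRow_apply, h]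
  simp only [minor, e, tv_smul]
  convert Matrix.det_updateRow_smul (Matrix.of fun a j => tv f (u (L j)) U (s a)) i (f.app U c)
    (fun j => tv f (u (L j)) U x) using 2 <;> congr 1 <;> subsingleton

/-- The minors as an alternating map. -/
def minorAlt (u : Fin r → Fun f F) (L : Fin p → Fin r) (U : X.Opens) :
    Γ(F, U) [⋀^Fin p]→ₗ[Γ(X, U)] Γ((Scheme.Modules.pushforward f).obj (Coh.structureModule P), U) :=
  AlternatingMap.mk
    ⟨fun s => minor f u L U s, fun s i x y => minor_update_add f u L U s i x y,
      fun s i c x => minor_update_smul f u L U s i c x⟩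
    fun s i j h hij => show minor f u L U s = 0 from
      Matrix.det_zero_of_row_eq hij (funext fun l => congrArg (tv f (u (L l)) U) h)

/-- The functional on an exterior power given by minors. -/
theorem exists_minorFun (u : Fin r → Fun f F) (L : Fin p → Fin r) (φ : DegDevLib.ExtIso p F E)
    (hφ : DegDevLib.Compat φ) :
    ∃ θ : Fun f E, ∀ (V : X.affineOpens) (s : Fin p → Γ(F, V.1)),
      tv f θ V.1 (wsec φ V s) = minor f u L V.1 s := by
  let A : ∀ V : X.affineOpens, ↥(⋀[Γ(X, V.1)]^p Γ(F, V.1)) →ₗ[Γ(X, V.1)]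
      Γ((Scheme.Modules.pushforward f).obj (Coh.structureModule P), V.1) :=
    fun V => exteriorPower.alternatingMapLinearEquiv (minorAlt f u L V.1)
  have hA : ∀ (V : X.affineOpens) (s : Fin p → Γ(F, V.1)), A V (φ V (wsec φ V s)) = minor f u L V.1 s := fun V s => by
    rw [wsec, LinearEquiv.apply_symm_apply]
    exact exteriorPower.alternatingMapLinearEquiv_apply_ιMulti _ s
  obtain ⟨θ, hθ⟩ := ProjBundleLib.exists_hom_of_affine
    (fun U : X.AffineZariskiSite => ((A ⟨U.1, U.2⟩).comp (φ ⟨U.1, U.2⟩).toLinearMap).toAddMonoidHom)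
    (fun U hU g z => by
      let U' : X.affineOpens := ⟨U, hU⟩
      let V' : X.affineOpens := ⟨X.basicOpen g, hU.basicOpen g⟩
      let h : V'.1 ≤ U'.1 := X.basicOpen_le g
      show ((Scheme.Modules.pushforward f).obj (Coh.structureModule P)).presheaf.map (homOfLE h).op (A U' (φ U' z)) =
        A V' (φ V' (E.presheaf.map (homOfLE h).op z))
      obtain ⟨y, rfl⟩ := (φ U').symm.surjective z
      rw [LinearEquiv.apply_symm_apply]
      induction y using ExtPowLib.induction_ιMulti with
      | h0 => simp only [map_zero]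
      | hadd a b ha hb =>
        simp only [map_add]
        exact congrArg₂ (· + ·) ha hb
      | hsmul c v =>
        refine ((congrArg _ ((A U').map_smul c _)).trans (Scheme.Modules.map_smul _ (homOfLE h) c _)).trans ?_
        refine Eq.trans ?_ (congrArg (fun w => A V' (φ V' (E.presheaf.map (homOfLE h).op w))) ((φ U').symm.map_smul c _)).symm
        refine Eq.trans ?_ (congrArg (fun w => A V' (φ V' w)) (Scheme.Modules.map_smul E (homOfLE h) c _)).symm
        have e1 := (φ V').map_smul (X.presheaf.map (homOfLE h).op c) (E.presheaf.map (homOfLE h).op (wsec φ U' v))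
        refine Eq.trans ?_ ((congrArg (A V') e1).trans ((A V').map_smul _ _)).symm
        refine congrArg _ ?_
        rw [show E.presheaf.map (homOfLE h).op (wsec φ U' v) = _ from hφ U' V' h v, hA, ← minor_res f u L h v]
        exact congrArg (((Scheme.Modules.pushforward f).obj (Coh.structureModule P)).presheaf.map (homOfLE h).op)
          (show A U' (exteriorPower.ιMulti _ p v) = minor f u L U'.1 v from
            exteriorPower.alternatingMapLinearEquiv_apply_ιMulti _ v))
    (fun U a z => by
      show A ⟨U.1, U.2⟩ (φ ⟨U.1, U.2⟩ (a • z)) = _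
      exact (congrArg (A _) ((φ ⟨U.1, U.2⟩).map_smul a z)).trans ((A _).map_smul a _))
  exact ⟨θ, fun V s => (hθ V.1 V.2 (wsec φ V s)).trans (hA V s)⟩

variable {sP f}

/-- Minors of a jointly injective family are jointly injective, and vanish with some column. -/
theorem exists_extFun_of_col [Coh.IsQCoh E] (hE : ExtPow.IsExtPow p F E) (u : Fin r → Fun f F) {q : P}
    (hq : IsClosed ({q} : Set P))
    (huq : ∀ L : Fin p → Fin r, Function.Injective L → ∃ j, ∀ (V : X.Opens) (hV : f q ∈ V) (s : Γ(F, V)),
      evk sP hq (show q ∈ f ⁻¹ᵁ V from hV) (tv f (u (L j)) V s) = 0) :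
    ∃ θ : (Fin p → Fin r) → Fun f E,
      (∀ (L : Fin p → Fin r) (V : X.Opens) (hV : f q ∈ V) (s : Γ(E, V)),
        evk sP hq (show q ∈ f ⁻¹ᵁ V from hV) (tv f (θ L) V s) = 0) ∧
      ∀ (V : X.Opens) (_ : IsAffineOpen V) {n : ℕ} (e : Fin n → Γ(F, V)) (_ : IsFrame V e), ThInj sP u V e q →
        ∃ (m : ℕ) (e' : Fin m → Γ(E, V)), IsFrame V e' ∧ ThInj sP θ V e' q := by
  classical
  obtain ⟨φ, hφ⟩ := hE
  choose θ hθ using fun L : Fin p → Fin r => exists_minorFun f u L φ hφ
  refine ⟨θ, fun L V hV s => ?_, fun V hV n e he hu => ?_⟩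
  · obtain ⟨_, ⟨W, hW, rfl⟩, hqW, hWV⟩ := X.isBasis_affineOpens.exists_subset_of_mem_open (show f q ∈ V from hV) V.2
    let W' : X.affineOpens := ⟨W, hW⟩
    have hWV' : W'.1 ≤ V := hWV
    rw [← evk_res sP hq (show q ∈ f ⁻¹ᵁ W'.1 from hqW) (show f ⁻¹ᵁ W'.1 ≤ f ⁻¹ᵁ V from fun _ hx => hWV' hx),
      ← tv_res f (θ L) hWV']
    obtain ⟨y, hy⟩ := (φ W').symm.surjective (E.presheaf.map (homOfLE hWV').op s)
    rw [← hy]
    clear hy
    induction y using ExtPowLib.induction_ιMulti with
    | h0 => rw [map_zero]; exact (congrArg (evk sP hq _) (map_zero ((θ L).app W'.1).hom)).trans (map_zero _)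
    | hadd a b ha hb => rw [map_add, tv_add, map_add, ha, hb, add_zero]
    | hsmul c v =>
      rw [map_smul]
      refine (congrArg (evk sP hq _) (tv_smul f (θ L) W'.1 c _)).trans ?_
      rw [map_mul, show tv f (θ L) W'.1 ((φ W').symm (exteriorPower.ιMulti _ p v)) = _ from hθ L W' v, minor,
        RingHom.map_det (evk sP hq _)]
      refine mul_eq_zero_of_right _ ?_
      by_cases hL : Function.Injective L
      · obtain ⟨j, hj⟩ := huq L hL
        exact Matrix.det_eq_zero_of_column_eq_zero j fun i => hj W'.1 hqW _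
      · obtain ⟨a, b, hab, hne⟩ := Function.not_injective_iff.1 hL
        exact Matrix.det_zero_of_column_eq hne fun i => by simp [hab]
  · let V' : X.affineOpens := ⟨V, hV⟩
    let b := (IsFrame.basis he : Module.Basis (Fin n) Γ(X, V'.1) Γ(F, V'.1))
    let S := Set.powersetCard (Fin n) p
    letI : Fintype S := Fintype.ofFinite _
    let σ : Fin (Fintype.card S) ≃ S := (Fintype.equivFin S).symm
    let B := ((b.exteriorPower p).map (φ V').symm).reindex σ.symm
    let e' : Fin (Fintype.card S) → Γ(E, V'.1) := fun a =>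
      wsec φ V' fun j => e (Set.powersetCard.ofFinEmbEquiv.symm (σ a) j)
    have hB : ∀ a, B a = e' a := fun a => by
      simp only [B, Module.Basis.reindex_apply, Equiv.symm_symm, Module.Basis.map_apply, exteriorPower.basis_apply,
        exteriorPower.ιMulti_family, b, IsFrame.basis_apply]
      rfl
    refine ⟨_, e', SFFLib.isFrame_of_bijective E hV e' ?_, ?_⟩
    · have h : ⇑(Fintype.linearCombination Γ(X, V'.1) e') = ⇑B.equivFun.symm := by
        funext c
        rw [Fintype.linearCombination_apply, B.equivFun_symm_apply]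
        exact Finset.sum_congr rfl fun a _ => congrArg (c a • ·) (hB a).symm
      rw [h]
      exact B.equivFun.symm.bijective
    · intro x hx hxV hxq lam hlam
      let v : Fin n → (Fin r → k) := fun b i => evk sP hx (show x ∈ f ⁻¹ᵁ V from hxV) (tv f (u i) V (e b))
      have hv : LinearIndependent k v := Fintype.linearIndependent_iff.2 fun g hg b => by
        refine congrFun (hu x hx hxV hxq g fun i => ?_) b
        exact (congrFun hg i).symm.trans (by simp [v]) |>.symm
      have hw := (exteriorPower.ιMulti_family_linearIndependent_field (n := p) hv).comp σ σ.injective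
      refine funext (Fintype.linearIndependent_iff.1 hw lam ?_)
      refine ((Pi.basisFun k (Fin r)).exteriorPower p).repr.injective (Finsupp.ext fun s => ?_)
      rw [map_zero, map_sum, Finsupp.finset_sum_apply, Finsupp.zero_apply]
      refine Eq.trans ?_ (hlam fun j => Set.powersetCard.ofFinEmbEquiv.symm s j)
      refine Finset.sum_congr rfl fun a _ => ?_
      rw [map_smul, Finsupp.smul_apply, exteriorPower.basis_repr_apply, Function.comp_apply,
        exteriorPower.ιMulti_family, exteriorPower.ιMultiDual_apply_ιMulti, smul_eq_mul]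
      show _ = lam a * evk sP hx _ (tv f (θ _) V'.1 (wsec φ V' _))
      rw [hθ, minor, RingHom.map_det]
      rfl

/-- Minors of a jointly injective family are jointly injective, and vanish with it. -/
theorem exists_extFun [Coh.IsQCoh E] (hp : 1 ≤ p) (hE : ExtPow.IsExtPow p F E) (u : Fin r → Fun f F) {q : P}
    (hq : IsClosed ({q} : Set P))
    (huq : ∀ (L : Fin r) (V : X.Opens) (hV : f q ∈ V) (s : Γ(F, V)),
      evk sP hq (show q ∈ f ⁻¹ᵁ V from hV) (tv f (u L) V s) = 0) :
    ∃ θ : (Fin p → Fin r) → Fun f E,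
      (∀ (L : Fin p → Fin r) (V : X.Opens) (hV : f q ∈ V) (s : Γ(E, V)),
        evk sP hq (show q ∈ f ⁻¹ᵁ V from hV) (tv f (θ L) V s) = 0) ∧
      ∀ (V : X.Opens) (_ : IsAffineOpen V) {n : ℕ} (e : Fin n → Γ(F, V)) (_ : IsFrame V e), ThInj sP u V e q →
        ∃ (m : ℕ) (e' : Fin m → Γ(E, V)), IsFrame V e' ∧ ThInj sP θ V e' q :=
  exists_extFun_of_col hE u hq fun L _ => ⟨⟨0, hp⟩, fun V hV s => huq _ V hV s⟩

end Groth.Agent.JetVanLib
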