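import Groth.Agent.JetVanLib.Jets
import Groth.Agent.OmegaAffLib.Main
import Groth.Agent.SeesawVB.Frames
import Groth.Agent.InfLiftLib.Smooth
import Mathlib.RingTheory.Ideal.Cotangent

/-!
# First-order data along a curve from functionals on the differentials
-/

set_option autoImplicit false
set_option linter.style.haveILetI false
set_option linter.unusedSectionVars false
set_option backward.isDefEq.respectTransparency false
set_option maxHeartbeats 1000000

universe u

open CategoryTheory CategoryTheory.Limits AlgebraicGeometry TopologicalSpace Opposite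
open Groth.Agent.OmegaDimLib
open Groth.Agent.DegDevLib (IsFrame)

noncomputable section

namespace Groth.Agent.JetVanLib

variable {k : Type u} [Field k] [IsAlgClosed k] {P X : Scheme.{u}} {sX : X ⟶ Spec (CommRingCat.of k)}
  {sP : P ⟶ Spec (CommRingCat.of k)} [LocallyOfFiniteType sP] {f : P ⟶ X} [QuasiSeparated sX] {N : ℕ}

/-- The first-order data of a family of functionals on the differentials. -/
def omegaJet (u : Fin N → Fun f (Omega.sheaf sX)) : JetData (k := k) sX f N where
  D V := AddMonoidHom.mk' (fun a l => tv f (u l) V (OmegaSh.dSect sX V a)) fun a b => by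
    funext l
    rw [OmegaSh.dSect_add, tv_add]
    rfl
  leib V a b l := by
    show tv f (u l) V (OmegaSh.dSect sX V (a * b)) = _
    rw [OmegaSh.dSect_mul, tv_add, tv_smul, tv_smul]
    rfl
  const V c := by
    funext l
    show tv f (u l) V (OmegaSh.dSect sX V (sX.appLE ⊤ V le_top ((Scheme.ΓSpecIso (CommRingCat.of k)).inv c))) = 0
    rw [OmAff.dSect_appLE]
    exact map_zero ((u l).app V).hom
  res {V V'} h a l := by
    show tv f (u l) V' (OmegaSh.dSect sX V' _) = _
    rw [OmegaSh.dSect_map sX h]
    exact tv_res f (u l) h _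

theorem omegaJet_D (u : Fin N → Fun f (Omega.sheaf sX)) (V : X.Opens) (a : Γ(X, V)) (l : Fin N) :
    (omegaJet (k := k) u).D V a l = tv f (u l) V (OmegaSh.dSect sX V a) := rfl

/-- On an affine chart the functionals see the first order. -/
theorem inj_omegaJet (hf : f ≫ sX = sP) (u : Fin N → Fun f (Omega.sheaf sX)) {V : X.Opens} (hV : IsAffineOpen V)
    {n : ℕ} (e : Fin n → Γ(Omega.sheaf sX, V)) (he : IsFrame V e) {q : P} (hu : ThInj sP u V e q) :
    Inj (omegaJet (k := k) u) sP V q := by
  intro p hp hpV hpq a ha hl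
  let χ := chi (f := f) (sP := sP) V hp hpV
  let m : Ideal Γ(X, V) := RingHom.ker χ
  obtain ⟨c, hc⟩ := he.bijective.2 (OmegaSh.dSect sX V a)
  rw [Fintype.linearCombination_apply] at hc
  have hχc : (fun b => χ (c b)) = 0 := hu p hp hpV hpq _ fun L => by
    refine Eq.trans ?_ (show evk sP hp (show p ∈ f ⁻¹ᵁ V from hpV) (tv f (u L) V (OmegaSh.dSect sX V a)) = 0 from congrFun hl L)
    rw [← hc, tv_sum, map_sum]
    refine Finset.sum_congr rfl fun b _ => ?_
    rw [tv_smul, map_mul]
    rfl
  have hsub : ∀ r : Γ(X, V), r - secHom k sX V (χ r) ∈ m := fun r => by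
    rw [RingHom.mem_ker, map_sub, chi_secHom hf, sub_self]
  let ρ : Γ(X, V) → m := fun r => ⟨r - secHom k sX V (χ r), hsub r⟩
  let M := ModuleCat.of Γ(X, V) m.Cotangent
  let D : M.Derivation (sX.appLE ⊤ V le_top) := ModuleCat.Derivation.mk (fun r => m.toCotangent (ρ r))
    (fun r s => by
      rw [← map_add]
      refine congrArg _ (Subtype.ext ?_)
      simp only [ρ, map_add, Submodule.coe_add]
      ring)
    (fun r s => by
      rw [← map_smul, ← map_smul, ← map_add, Ideal.toCotangent_eq]
      have h : (ρ (r * s) : Γ(X, V)) - ((r • ρ s + s • ρ r : m) : Γ(X, V)) =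
          -((r - secHom k sX V (χ r)) * (s - secHom k sX V (χ s))) := by
        simp only [ρ, map_mul, Submodule.coe_add, SetLike.val_smul, smul_eq_mul]
        ring
      rw [h, pow_two]
      exact neg_mem (Ideal.mul_mem_mul (hsub r) (hsub s)))
    (fun c => by
      rw [Ideal.toCotangent_eq_zero]
      have e : sX.appLE ⊤ V le_top c = secHom k sX V ((Scheme.ΓSpecIso (CommRingCat.of k)).hom c) := by
        simp [secHom]
      have h : (ρ (sX.appLE ⊤ V le_top c) : Γ(X, V)) = 0 := by
        simp only [ρ, e, χ, chi_secHom hf, sub_self]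
      rw [h]
      exact zero_mem _)
  haveI := OmegaAffLib.isIso_toSect sX (isAffineOpen_top _) hV (le_top : V ≤ sX ⁻¹ᵁ ⊤)
  let L := inv (OmAff.toSect sX ⊤ V le_top) ≫ D.desc
  have hd : L (OmegaSh.dSect sX V a) = m.toCotangent (ρ a) := by
    rw [← OmAff.toSect_d sX ⊤ V le_top a]
    refine Eq.trans ?_ (D.desc_d a)
    exact ConcreteCategory.congr_hom (IsIso.hom_inv_id_assoc (OmAff.toSect sX ⊤ V le_top) D.desc) _
  have h0 : L (OmegaSh.dSect sX V a) = 0 := by
    rw [← hc]
    refine (map_sum L.hom _ _).trans (Finset.sum_eq_zero fun b _ => ?_)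
    refine (L.hom.map_smul (c b) (e b)).trans ?_
    obtain ⟨y, hy⟩ := m.toCotangent_surjective (L (e b))
    rw [← hy, ← map_smul, Ideal.toCotangent_eq_zero]
    show c b * (y : Γ(X, V)) ∈ m ^ 2
    rw [pow_two]
    exact Ideal.mul_mem_mul (show c b ∈ m from congrFun hχc b) y.2
  have h1 := (m.toCotangent_eq_zero _).1 (hd.symm.trans h0)
  simpa [ρ, χ, show chi (f := f) (sP := sP) V hp hpV a = 0 from ha] using h1

end Groth.Agent.JetVanLib
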