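import Groth.Agent.JetVanLib.P1
import Groth.Agent.JetVanLib.Omega
import Groth.Agent.KRRAmple.Basic
import Groth.Agent.CompleteCurve.ProjSpace

/-!
# Functionals on the differentials along a rational curve
-/

set_option autoImplicit false
set_option linter.style.haveILetI false
set_option linter.unusedSectionVars false
set_option backward.isDefEq.respectTransparency false
set_option maxHeartbeats 4000000

universe u

open CategoryTheory CategoryTheory.Limits AlgebraicGeometry TopologicalSpace Opposite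
open Groth.Agent.AmpleEmb Groth.Agent.PicProjLib Groth.Agent.SplitP1Lib Groth.Agent.PullbackMod
open Groth.Agent.DegDevLib (IsFrame)

noncomputable section

namespace Groth.Agent.JetVanLib

instance locallyOfFiniteType_toSpec (k : Type u) [Field k] :
    LocallyOfFiniteType (CohB1.ProjSpace.toSpec 1 k) :=
  haveI := CompleteCurve.isProper_toSpec 1 k
  inferInstance

variable {k : Type u} [Field k] [IsAlgClosed k] {X : Scheme.{u}}

local notation "P" => CohB1.ProjSpace 1 k
local notation "sP" => CohB1.ProjSpace.toSpec 1 k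
local notation "U₀" => stdOpen 1 k (0 : Fin 2)
local notation "U₁" => stdOpen 1 k (1 : Fin 2)

variable {F : X.Modules}

/-- The inverse image of a finite locally free module on the line is adapted to some exponents. -/
theorem exists_adapted_pullback (f : CohB1.ProjSpace 1 k ⟶ X) (hF : FlatMod.IsFinLocFree F) :
    ∃ (r : ℕ) (d : Fin r → ℤ), Antitone d ∧ Adapted (k := k) ((Scheme.Modules.pullback f).obj F) d := by
  obtain ⟨r, hr⟩ := KRRAmple.exists_isFinLocFreeOfRank (PullbackMod.isFinLocFree_pullback f F hF)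
  obtain ⟨d, hd, had⟩ := exists_adapted hr
  exact ⟨r, d, hd, had⟩

/-- The coordinate functionals of an adapted inverse image with nonpositive exponents. -/
theorem exists_curveFun (f : CohB1.ProjSpace 1 k ⟶ X) [Coh.IsQCoh F] {r : ℕ} {d : Fin r → ℤ}
    (had : Adapted (k := k) ((Scheme.Modules.pullback f).obj F) d) (hd : ∀ a, d a ≤ 0) :
    ∃ u : Fin r → Fun f F,
      (∀ a, d a < 0 → ∀ (V : X.Opens) (hV : f (P1.q₀ (k := k)) ∈ V) (s : Γ(F, V)),
        evk sP P1.isClosed_q₀ (show (P1.q₀ (k := k)) ∈ f ⁻¹ᵁ V from hV) (tv f (u a) V s) = 0) ∧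
      ∀ (V : X.Opens) {n : ℕ} (e : Fin n → Γ(F, V)), IsFrame V e → ThInj (k := k) (f := f) sP u V e (P1.q₀ (k := k)) := by
  classical
  obtain ⟨f₀, f₁, h₀, h₁, hdd⟩ := had
  choose ψ hψ₁ hψ₀ using fun a => P1.exists_coordFun f₀ f₁ h₀ h₁ hdd (hd a)
  let G := (Scheme.Modules.pullback f).obj F
  let u : Fin r → Fun f F := fun a =>
    (Scheme.Modules.pullbackPushforwardAdjunction f).unit.app F ≫ (Scheme.Modules.pushforward f).map (ψ a)
  have hu : ∀ a (V : X.Opens) (W : (P).Opens) (h : W ≤ f ⁻¹ᵁ V) (s : Γ(F, V)),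
      (P).presheaf.map (homOfLE h).op (tv f (u a) V s) = ((ψ a).app W (pullMap f F h s) : Γ(P, W)) := fun a V W h s =>
    (ConcreteCategory.congr_hom ((ψ a).mapPresheaf.naturality (homOfLE h).op)
      (((Scheme.Modules.pullbackPushforwardAdjunction f).unit.app F).app V s)).symm
  refine ⟨u, fun a ha V hV s => ?_, fun V n e he p hp hpV hpq lam hlam => ?_⟩
  · let W : (P).Opens := f ⁻¹ᵁ V ⊓ U₀
    have hq : P1.q₀ ∈ W := ⟨hV, P1.q₀_mem⟩
    rw [← evk_res sP P1.isClosed_q₀ hq (inf_le_left : W ≤ f ⁻¹ᵁ V), hu]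
    obtain ⟨c, hc⟩ := (h₀.res (inf_le_right : W ≤ U₀)).bijective.2 (pullMap f F (inf_le_left : W ≤ f ⁻¹ᵁ V) s)
    rw [Fintype.linearCombination_apply] at hc
    rw [← hc]
    refine (congrArg (evk sP P1.isClosed_q₀ hq) (map_sum ((ψ a).app W).hom _ _)).trans ?_
    refine (map_sum (evk sP P1.isClosed_q₀ hq) _ _).trans (Finset.sum_eq_zero fun b _ => ?_)
    refine (congrArg (evk sP P1.isClosed_q₀ hq) (((ψ a).app_smul (c b) _).trans rfl)).trans ?_
    refine (map_mul (evk sP P1.isClosed_q₀ hq) (c b) _).trans (mul_eq_zero_of_right _ ?_)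
    refine (congrArg (evk sP P1.isClosed_q₀ hq) (hψ₀ a W inf_le_right b)).trans ?_
    split_ifs
    · have hτ : evk sP P1.isClosed_q₀ (P1.q₀_mem (k := k)) (coordRatio 1 k (0 : Fin 2) 1) = 0 := by
        rw [evk_eq_zero_iff, basicOpen_coordRatio]
        exact fun h => (P1.mem_U₁_iff _).1 h.2 rfl
      rw [evk_res, map_pow, hτ, zero_pow (by omega)]
    · exact map_zero _
  · have hp₁ : p ∈ U₁ := (P1.mem_U₁_iff p).2 hpq
    let W : (P).Opens := f ⁻¹ᵁ V ⊓ U₁
    have hpW : p ∈ W := ⟨hpV, hp₁⟩
    let σ : Fin n → Γ(G, W) := fun b => pullMap f F (inf_le_left : W ≤ f ⁻¹ᵁ V) (e b)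
    let τ : Fin r → Γ(G, W) := fun a => G.presheaf.map (homOfLE (inf_le_right : W ≤ U₁)).op (f₁ a)
    have hσ : IsFrame W σ := SeesawVB.isFrame_pullMap f he (inf_le_left : W ≤ f ⁻¹ᵁ V)
    have hτ : IsFrame W τ := h₁.res (inf_le_right : W ≤ U₁)
    choose C hC using fun a => hσ.bijective.2 (τ a)
    choose D hD using fun b => hτ.bijective.2 (σ b)
    simp only [Fintype.linearCombination_apply] at hC hD
    have hDC : ∀ b, (fun b' => ∑ a, D b a * C a b') = Pi.single b 1 := fun b => by
      refine hσ.bijective.1 ?_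
      rw [Fintype.linearCombination_apply_single, one_smul, Fintype.linearCombination_apply]
      conv_rhs => rw [← hD b]
      simp only [← hC, Finset.smul_sum, smul_smul, Finset.sum_smul]
      exact Finset.sum_comm
    have hval : ∀ a b, evk sP hp (show p ∈ f ⁻¹ᵁ V from hpV) (tv f (u a) V (e b)) = evk sP hp hpW (D b a) := fun a b => by
      rw [← evk_res sP hp hpW (inf_le_left : W ≤ f ⁻¹ᵁ V), hu]
      refine congrArg (evk sP hp hpW) ?_
      show ((ψ a).app W (σ b) : Γ(P, W)) = _
      rw [← hD b]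
      refine (map_sum ((ψ a).app W).hom _ _).trans ?_
      rw [Finset.sum_eq_single a]
      · refine (((ψ a).app_smul (D b a) _).trans ?_)
        refine (congrArg (D b a * ·) (hψ₁ a W inf_le_right a)).trans ?_
        rw [if_pos rfl, mul_one]
      · intro a' _ ha'
        refine ((ψ a).app_smul (D b a') _).trans ?_
        refine (congrArg (D b a' * ·) (hψ₁ a W inf_le_right a')).trans ?_
        rw [if_neg ha', mul_zero]
      · exact fun h' => absurd (Finset.mem_univ a) h'
    funext b'
    have h : ∑ b, lam b * evk sP hp hpW (Pi.single (M := fun _ => Γ(P, W)) b 1 b') = 0 := by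
      simp only [← hDC, map_sum, map_mul, Finset.mul_sum, ← mul_assoc]
      rw [Finset.sum_comm]
      refine Finset.sum_eq_zero fun a _ => ?_
      rw [← Finset.sum_mul]
      simp only [← hval]
      rw [hlam a, zero_mul]
    rw [Finset.sum_eq_single b'] at h
    · simpa using h
    · intro b _ hb
      simp [Pi.single_eq_of_ne (Ne.symm hb)]
    · exact fun h' => absurd (Finset.mem_univ b') h'

/-- An affine frame at every point. -/
theorem exists_affine_frame (hF : FlatMod.IsFinLocFree F) (x : X) :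
    ∃ (V : X.Opens) (n : ℕ) (e : Fin n → Γ(F, V)), IsAffineOpen V ∧ x ∈ V ∧ IsFrame V e := by
  obtain ⟨U, n, s, hxU, hs⟩ := SeesawVB.exists_frame_at hF x
  obtain ⟨_, ⟨V, hV, rfl⟩, hxV, hVU⟩ := X.isBasis_affineOpens.exists_subset_of_mem_open hxU U.2
  exact ⟨V, n, _, hV, hxV, hs.res (show V ≤ U from hVU)⟩

end Groth.Agent.JetVanLib
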