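import Groth.Agent.JetVanLib.Descent
import Mathlib.Algebra.CharP.Frobenius
import Mathlib.FieldTheory.Perfect
import Mathlib.Algebra.Polynomial.Expand

/-!
# Trivial differentials force a constant curve
-/

set_option autoImplicit false
set_option linter.style.haveILetI false
set_option linter.unusedSectionVars false
set_option backward.isDefEq.respectTransparency false
set_option maxHeartbeats 1000000

universe u

open CategoryTheory CategoryTheory.Limits AlgebraicGeometry TopologicalSpace Opposite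
open Groth.Agent.AmpleEmb Groth.Agent.PicProjLib Groth.Agent.SplitP1Lib Groth.Agent.PullbackMod
open Groth.Agent.OmegaDimLib
open Groth.Agent.JetVanLib.P1 (γP DP germ_ext germ_res_gen)

noncomputable section

namespace Groth.Agent.JetVanLib.Descent

variable {k : Type u} [Field k] [IsAlgClosed k] {X : Scheme.{u}}

local notation "P" => CohB1.ProjSpace 1 k
local notation "sP" => CohB1.ProjSpace.toSpec 1 k
local notation "U₁" => stdOpen 1 k (1 : Fin 2)
local notation "KK" => Scheme.functionField (CohB1.ProjSpace 1 k)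

theorem φp_C_eq (c : k) {W : (CohB1.ProjSpace 1 k).Opens} (hη : gen 1 k ∈ W) :
    φp (k := k) 1 (Polynomial.C c) = γP hη (secHom k sP W c) := by
  rw [← germ_secP, P1.secP_C]
  show ((P).presheaf.germ _ _ _).hom _ = ((P).presheaf.germ _ _ _).hom _
  rw [germ_secHom, germ_secHom]

/-- An element with roots of all orders is a constant. -/
theorem exists_const_of_pow (x : KK) (h : ∀ N : ℕ, ∃ q, N < q ∧ ∃ r : KK, r ^ q = x) :
    ∃ c : k, x = φp 1 (Polynomial.C c) := by
  classical
  obtain ⟨a, b, hb, hab, hx⟩ := P1.exists_coprime_frac x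
  by_cases ha : a = 0
  · refine ⟨0, ?_⟩
    rw [ha, map_zero, mul_eq_zero] at hx
    rw [map_zero, map_zero]
    exact hx.resolve_right fun e => hb (φp_injective 1 (e.trans (map_zero _).symm))
  obtain ⟨q, hq, r, hr⟩ := h (a.natDegree + b.natDegree)
  obtain ⟨a', b', hb', hab', hr'⟩ := P1.exists_coprime_frac r
  have e : a * b' ^ q = b * a' ^ q := φp_injective 1 (by
    simp only [map_mul, map_pow, ← hr', ← hx, mul_pow, hr]
    ring)
  have hpow : IsRelPrime (a' ^ q) (b' ^ q) := hab'.pow
  have d1 : a ∣ a' ^ q := hab.dvd_of_dvd_mul_left ⟨b' ^ q, e.symm⟩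
  have d2 : a' ^ q ∣ a := hpow.dvd_of_dvd_mul_right ⟨b, e.trans (mul_comm _ _)⟩
  have d3 : b ∣ b' ^ q := hab.symm.dvd_of_dvd_mul_left ⟨a' ^ q, e⟩
  have d4 : b' ^ q ∣ b := hpow.symm.dvd_of_dvd_mul_right ⟨a, e.symm.trans (mul_comm _ _)⟩
  have ha' : a'.natDegree = 0 ∧ a.natDegree = 0 := by
    have h1 := Polynomial.natDegree_eq_of_degree_eq (Polynomial.degree_eq_degree_of_associated (associated_of_dvd_dvd d1 d2))
    rw [Polynomial.natDegree_pow] at h1
    rcases Nat.eq_zero_or_pos a'.natDegree with h0 | h0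
    · exact ⟨h0, by rw [h1, h0, mul_zero]⟩
    · have := Nat.le_mul_of_pos_right q h0
      omega
  have hb0 : b'.natDegree = 0 ∧ b.natDegree = 0 := by
    have h1 := Polynomial.natDegree_eq_of_degree_eq (Polynomial.degree_eq_degree_of_associated (associated_of_dvd_dvd d3 d4))
    rw [Polynomial.natDegree_pow] at h1
    rcases Nat.eq_zero_or_pos b'.natDegree with h0 | h0
    · exact ⟨h0, by rw [h1, h0, mul_zero]⟩
    · have := Nat.le_mul_of_pos_right q h0
      omega
  rw [Polynomial.eq_C_of_natDegree_eq_zero ha'.2, Polynomial.eq_C_of_natDegree_eq_zero hb0.2] at hx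
  have hb1 : b.coeff 0 ≠ 0 := fun h0 => hb (by rw [Polynomial.eq_C_of_natDegree_eq_zero hb0.2, h0, map_zero])
  refine ⟨a.coeff 0 / b.coeff 0, mul_right_cancel₀ (b := φp 1 (Polynomial.C (b.coeff 0))) ?_ ?_⟩
  · exact fun e => hb1 (Polynomial.C_eq_zero.1 (φp_injective 1 (e.trans (map_zero _).symm)))
  · rw [hx, ← map_mul, ← map_mul, div_mul_cancel₀ _ hb1]

variable (f : CohB1.ProjSpace 1 k ⟶ X) (sX : X ⟶ Spec (CommRingCat.of k)) [QuasiSeparated sX]

/-- All functions are constant on the curve. -/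
theorem exists_const (hf : f ≫ sX = sP) (hΩ : FlatMod.IsFinLocFree (Omega.sheaf sX)) {r : ℕ}
    {d : Fin r → ℤ} (had : Adapted (k := k) ((Scheme.Modules.pullback f).obj (Omega.sheaf sX)) d)
    (hd : ∀ a, d a = 0) (V : X.Opens) (h : Γ(X, V)) (hη : gen 1 k ∈ f ⁻¹ᵁ V) :
    ∃ c : k, γP hη (f.app V h) = φp 1 (Polynomial.C c) := by
  classical
  obtain ⟨p, hp⟩ := CharP.exists k
  rcases CharP.char_is_prime_or_zero k p with hpp | rfl
  · haveI := Fact.mk hpp
    haveI : CharP KK p := charP_of_injective_ringHom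
      ((φp (k := k) 1).comp Polynomial.C).injective p
    haveI : PerfectRing k p := PerfectField.toPerfectRing p
    have hpow : ∀ e : ℕ, IsPow f (p ^ e) := by
      intro e
      induction e with
      | zero => exact fun V h hη => ⟨_, pow_one _⟩
      | succ e ih =>
        intro V h hη
        obtain ⟨a, b, hb, ha', hb', x, hx, hab⟩ := derivative_root_eq_zero f sX hf hΩ had hd
          (pow_pos hpp.pos e) (fun a b => add_pow_char_pow a b p e) ih V h hη
        have key : ∀ g : Polynomial k, Polynomial.derivative g = 0 → ∃ g' : Polynomial k, g = g' ^ p := fun g hg => by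
          refine ⟨(Polynomial.contract p g).map (frobeniusEquiv k p).symm.toRingHom, ?_⟩
          conv_lhs => rw [← Polynomial.expand_contract p hg hpp.ne_zero]
          rw [← Polynomial.map_frobenius_expand (R := k) p, ← Polynomial.map_expand, Polynomial.map_map]
          conv_lhs => rw [← Polynomial.map_id (p := Polynomial.expand k p (Polynomial.contract p g))]
          congr 1
          exact RingHom.ext fun t => (frobenius_apply_frobeniusEquiv_symm k p t).symm
        obtain ⟨a', rfl⟩ := key a ha'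
        obtain ⟨b', rfl⟩ := key b hb'
        have hb0 : φp (k := k) 1 b' ^ p ≠ 0 := by
          rw [← map_pow]
          exact fun e => hb (φp_injective 1 (e.trans (map_zero _).symm))
        refine ⟨φp 1 a' / φp 1 b', ?_⟩
        rw [pow_succ', pow_mul, div_pow, ← map_pow (φp (k := k) 1) a', ← map_pow (φp (k := k) 1) b',
          ← hab, mul_div_cancel_right₀ _ (map_pow (φp (k := k) 1) b' p ▸ hb0), hx]
    refine exists_const_of_pow _ fun N => ⟨p ^ (N + 1), ?_, hpow (N + 1) V h hη⟩
    exact (Nat.lt_pow_self hpp.one_lt).trans_le (Nat.pow_le_pow_right hpp.pos (by omega))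
  · haveI : CharZero k := CharP.charP_to_charZero k
    obtain ⟨a, b, hb, ha', hb', x, hx, hab⟩ := derivative_root_eq_zero f sX hf hΩ had hd one_pos
      (fun a b => by simp only [pow_one]) (fun V h hη => ⟨_, pow_one _⟩) V h hη
    rw [pow_one] at hx
    rw [hx, Polynomial.eq_C_of_derivative_eq_zero ha', Polynomial.eq_C_of_derivative_eq_zero hb'] at hab
    have hb1 : b.coeff 0 ≠ 0 := fun h0 => hb (by rw [Polynomial.eq_C_of_derivative_eq_zero hb', h0, map_zero])
    refine ⟨a.coeff 0 / b.coeff 0, mul_right_cancel₀ (b := φp 1 (Polynomial.C (b.coeff 0))) ?_ ?_⟩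
    · exact fun e => hb1 (Polynomial.C_eq_zero.1 (φp_injective 1 (e.trans (map_zero _).symm)))
    · rw [hab, ← map_mul, ← map_mul, div_mul_cancel₀ _ hb1]

/-- A curve along which the differentials are trivial is constant. -/
theorem constant_of_trivial (hf : f ≫ sX = sP) (hΩ : FlatMod.IsFinLocFree (Omega.sheaf sX)) {r : ℕ}
    {d : Fin r → ℤ} (had : Adapted (k := k) ((Scheme.Modules.pullback f).obj (Omega.sheaf sX)) d)
    (hd : ∀ a, d a = 0) (y : P) : f y = f (gen 1 k) := by
  have hgy : ∀ O : X.Opens, f y ∈ O → f (gen 1 k) ∈ O := fun O h =>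
    ((genericPoint_spec P).specializes (show y ∈ (⊤ : (P).Opens) from trivial)).mem_open (f ⁻¹ᵁ O).2 h
  obtain ⟨_, ⟨V, hV, rfl⟩, hyV, -⟩ := X.isBasis_affineOpens.exists_subset_of_mem_open (Set.mem_univ (f y)) isOpen_univ
  have hηV : gen 1 k ∈ f ⁻¹ᵁ V := hgy V hyV
  have key : ∀ h : Γ(X, V), gen 1 k ∈ f ⁻¹ᵁ X.basicOpen h → y ∈ f ⁻¹ᵁ X.basicOpen h := fun h hh => by
    obtain ⟨c, hc⟩ := exists_const f sX hf hΩ had hd V h hηV
    have e : f.app V h = secHom k sP (f ⁻¹ᵁ V) c := germ_ext fun hη => hc.trans (φp_C_eq c hη)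
    rw [Scheme.preimage_basicOpen, e] at hh ⊢
    by_cases hc0 : c = 0
    · rw [hc0, map_zero, Scheme.basicOpen_zero] at hh
      exact hh.elim
    · rw [Scheme.basicOpen_of_isUnit _ ((isUnit_iff_ne_zero.2 hc0).map _)]
      exact hyV
  have hins : Inseparable (f y) (f (gen 1 k)) := inseparable_iff_forall_isOpen.2 fun O hO => by
    refine ⟨hgy ⟨O, hO⟩, fun h => ?_⟩
    obtain ⟨h', hle, hh'⟩ := hV.exists_basicOpen_le (V := ⟨O, hO⟩) ⟨f (gen 1 k), h⟩ hηV
    exact hle (key h' hh')
  exact hins.eq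

end Groth.Agent.JetVanLib.Descent
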