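import Groth.Agent.JetVanLib.InsepP1
import Groth.Agent.JetVanLib.Curve
import Groth.Agent.OmegaUnivLib.Univ

/-!
# A rational curve with trivial differentials is constant
-/

set_option autoImplicit false
set_option linter.style.haveILetI false
set_option linter.unusedSectionVars false
set_option backward.isDefEq.respectTransparency false
set_option maxHeartbeats 1000000

universe u

open CategoryTheory CategoryTheory.Limits AlgebraicGeometry TopologicalSpace Opposite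
open Groth.Agent.AmpleEmb Groth.Agent.PicProjLib Groth.Agent.SplitP1Lib Groth.Agent.PullbackMod
open Groth.Agent.DegDevLib (IsFrame)
open Groth.Agent.OmegaDimLib
open Groth.Agent.JetVanLib.P1 (γP DP germ_ext germ_res_gen)

noncomputable section

namespace Groth.Agent.JetVanLib.Descent

variable {k : Type u} [Field k] [IsAlgClosed k] {X : Scheme.{u}}

local notation "P" => CohB1.ProjSpace 1 k
local notation "sP" => CohB1.ProjSpace.toSpec 1 k
local notation "U₀" => stdOpen 1 k (0 : Fin 2)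
local notation "U₁" => stdOpen 1 k (1 : Fin 2)
local notation "KK" => Scheme.functionField (CohB1.ProjSpace 1 k)

/-- All functions on the target become `q`-th powers on the curve. -/
def IsPow (f : CohB1.ProjSpace 1 k ⟶ X) (q : ℕ) : Prop :=
  ∀ (V : X.Opens) (h : Γ(X, V)) (hη : gen 1 k ∈ f ⁻¹ᵁ V), ∃ r : KK, r ^ q = γP hη (f.app V h)

theorem pow_inj {K : Type*} [Field K] {q : ℕ} (hq : 0 < q) (hadd : ∀ a b : K, (a + b) ^ q = a ^ q + b ^ q)
    {a b : K} (h : a ^ q = b ^ q) : a = b := by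
  have h1 := hadd (a - b) b
  rw [sub_add_cancel, h, right_eq_add] at h1
  exact sub_eq_zero.1 (eq_zero_of_pow_eq_zero h1)

/-- A global section from frames with exponents zero. -/
theorem exists_global {E : (CohB1.ProjSpace 1 k).Modules} {r : ℕ} (f₀ : Fin r → Γ(E, U₀)) (f₁ : Fin r → Γ(E, U₁))
    (h₀ : IsFrame U₀ f₀) (hd : ∀ a, γg (gen_mem 1 k) (f₁ a) = γg (gen_mem 1 k) (f₀ a)) (a : Fin r) :
    ∃ S : Γ(E, (⊤ : (P).Opens)), E.presheaf.map (homOfLE le_top).op S = f₁ a := by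
  classical
  let W := U₀ ⊓ U₁
  have hW : ∀ (s s' : Γ(E, W)), γg (show gen 1 k ∈ W from gen_mem_W) s = γg gen_mem_W s' → s = s' := fun s s' h => by
    have hf := h₀.res (inf_le_left : W ≤ U₀)
    obtain ⟨c, rfl⟩ := hf.bijective.2 s
    obtain ⟨c', rfl⟩ := hf.bijective.2 s'
    rw [Fintype.linearCombination_apply, Fintype.linearCombination_apply, linComb_germ, linComb_germ] at h
    exact congrArg _ (funext fun b => germ_ext fun hη => congrFun (coeff_eq hf h) b)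
  let U : ULift.{u} (Fin 2) → (P).Opens := fun i => stdOpen 1 k i.down
  let g : ∀ i, Γ(E, U i) := fun i =>
    match i with
    | ⟨0⟩ => f₀ a
    | ⟨1⟩ => f₁ a
  have key : E.presheaf.map (homOfLE (inf_le_left : W ≤ U₀)).op (f₀ a) =
      E.presheaf.map (homOfLE (inf_le_right : W ≤ U₁)).op (f₁ a) := hW _ _
    ((TopCat.Presheaf.germ_res_apply E.presheaf _ _ _ _).trans
      ((hd a).symm.trans (TopCat.Presheaf.germ_res_apply E.presheaf _ _ _ _).symm))
  obtain ⟨G, hG, -⟩ := TopCat.Sheaf.existsUnique_gluing' (⟨E.presheaf, E.isSheaf⟩ : TopCat.Sheaf Ab.{u} (P).carrier) U ⊤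
    (fun _ => homOfLE le_top) (fun x _ => by
      rcases P1.mem_U₀_or_U₁ x with h | h
      · exact Opens.mem_iSup.2 ⟨⟨0⟩, h⟩
      · exact Opens.mem_iSup.2 ⟨⟨1⟩, h⟩) g (fun i j => by
      match i, j with
      | ⟨0⟩, ⟨0⟩ => rfl
      | ⟨1⟩, ⟨1⟩ => rfl
      | ⟨0⟩, ⟨1⟩ => exact key
      | ⟨1⟩, ⟨0⟩ =>
        have h := congrArg (E.presheaf.map (homOfLE (show U₁ ⊓ U₀ ≤ W from inf_comm _ _ |>.le)).op) key.symm
        exact (ParaFLib.res_res (L := E) _ _ (f₁ a)).symm.trans (h.trans (ParaFLib.res_res (L := E) _ _ (f₀ a))))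
  exact ⟨G, hG ⟨1⟩⟩

variable (f : CohB1.ProjSpace 1 k ⟶ X) (sX : X ⟶ Spec (CommRingCat.of k)) [QuasiSeparated sX]

/-- The twisted differential vanishes. -/
theorem derivative_root_eq_zero (hf : f ≫ sX = sP) (hΩ : FlatMod.IsFinLocFree (Omega.sheaf sX)) {r : ℕ}
    {d : Fin r → ℤ} (had : Adapted (k := k) ((Scheme.Modules.pullback f).obj (Omega.sheaf sX)) d)
    (hd : ∀ a, d a = 0) {q : ℕ} (hq : 0 < q) (hadd : ∀ a b : KK, (a + b) ^ q = a ^ q + b ^ q)
    (hP : IsPow f q) (V : X.Opens) (h : Γ(X, V)) (hη : gen 1 k ∈ f ⁻¹ᵁ V) :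
    ∃ a b : Polynomial k, b ≠ 0 ∧ Polynomial.derivative a = 0 ∧ Polynomial.derivative b = 0 ∧
      ∃ x : KK, x ^ q = γP hη (f.app V h) ∧ x * φp 1 b = φp 1 a := by
  classical
  haveI : Coh.IsQCoh (Omega.sheaf sX) := OmegaAffLib.isQCoh_omega sX
  choose G hG using fun (V : X.Opens) (h : Γ(X, V)) => P1.exists_root (f.app V h) hq fun hη => hP V h hη
  have hGq : ∀ V h (hη : gen 1 k ∈ f ⁻¹ᵁ V), γP hη (G V h) ^ q = γP hη (f.app V h) := fun V h hη => by
    obtain ⟨x, hx⟩ := hP V h hη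
    rw [hG V h hη x hx fun x' hx' => pow_inj hq hadd hx', hx]
  have huniq : ∀ V h (g : Γ(P, f ⁻¹ᵁ V)), (∀ hη : gen 1 k ∈ f ⁻¹ᵁ V, γP hη g ^ q = γP hη (f.app V h)) → G V h = g :=
    fun V h g hg => germ_ext fun hη => pow_inj hq hadd ((hGq V h hη).trans (hg hη).symm)
  have Gadd : ∀ V a b, G V (a + b) = G V a + G V b := fun V a b => huniq V _ _ fun hη => by
    rw [map_add, hadd, hGq, hGq, map_add, map_add]
  have Gmul : ∀ V a b, G V (a * b) = G V a * G V b := fun V a b => huniq V _ _ fun hη => by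
    rw [map_mul, mul_pow, hGq, hGq, map_mul, map_mul]
  have Gres : ∀ {V V' : X.Opens} (hle : V' ≤ V) (a : Γ(X, V)), G V' (X.presheaf.map (homOfLE hle).op a) =
      (P).presheaf.map (homOfLE (show f ⁻¹ᵁ V' ≤ f ⁻¹ᵁ V from fun _ hx => hle hx)).op (G V a) := fun {V V'} hle a =>
    huniq V' _ _ fun hη => by
      rw [show γP hη ((P).presheaf.map _ (G V a)) = γP (W := f ⁻¹ᵁ V) (hle hη) (G V a) from germ_res_gen _ hη _, hGq]
      refine (germ_res_gen (show f ⁻¹ᵁ V' ≤ f ⁻¹ᵁ V from fun _ hx => hle hx) hη _).symm.trans (congrArg (γP hη) ?_)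
      exact (ConcreteCategory.congr_hom (f.naturality (homOfLE hle).op) a).symm
  have Gconst : ∀ V (c : k), ∃ c' : k, G V (secHom k sX V c) = secHom k sP (f ⁻¹ᵁ V) c' := fun V c => by
    obtain ⟨c', hc'⟩ := IsAlgClosed.exists_pow_nat_eq c hq
    refine ⟨c', huniq V _ _ fun hη => ?_⟩
    have e : f.app V (secHom k sX V c) = secHom k sP (f ⁻¹ᵁ V) c := by
      rw [← hf, ← secHom_comp k f sX (le_refl (f ⁻¹ᵁ V)), RingHom.comp_apply, ← Scheme.Hom.app_eq_appLE]
    rw [e, ← map_pow, ← map_pow, hc']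
  let T := (Scheme.Modules.pushforward f).obj (Coh.structureModule P)
  let δ : ∀ V : X.Opens, Γ(X, V) →+ Γ(T, V) := fun V =>
    AddMonoidHom.mk' (fun a => (show Γ(T, V) from DP (f ⁻¹ᵁ V) (G V a) ^ q)) fun a b => by
      show DP (f ⁻¹ᵁ V) (G V (a + b)) ^ q = DP (f ⁻¹ᵁ V) (G V a) ^ q + DP (f ⁻¹ᵁ V) (G V b) ^ q
      refine germ_ext fun hη => ?_
      simp only [Gadd, map_add, map_pow, hadd]
  have δleib : ∀ V a b, (show Γ(P, f ⁻¹ᵁ V) from δ V (a * b)) =
      f.app V a * (show Γ(P, f ⁻¹ᵁ V) from δ V b) + f.app V b * (show Γ(P, f ⁻¹ᵁ V) from δ V a) := fun V a b => by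
    show DP (f ⁻¹ᵁ V) (G V (a * b)) ^ q = f.app V a * DP (f ⁻¹ᵁ V) (G V b) ^ q + f.app V b * DP (f ⁻¹ᵁ V) (G V a) ^ q
    refine germ_ext fun hη => ?_
    show γP hη _ = γP hη _
    simp only [Gmul, P1.DP_mul, map_add, map_pow, map_mul, hadd, mul_pow, hGq]
  have δres : ∀ {V V' : X.Opens} (hle : V' ≤ V) (a : Γ(X, V)),
      δ V' (X.presheaf.map (homOfLE hle).op a) = T.presheaf.map (homOfLE hle).op (δ V a) := fun {V V'} hle a => by
    show DP (f ⁻¹ᵁ V') (G V' _) ^ q = (P).presheaf.map _ (DP (f ⁻¹ᵁ V) (G V a) ^ q)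
    rw [Gres hle, P1.DP_res, map_pow]
    rfl
  have δconst : ∀ (W : (Spec (CommRingCat.of k)).Opens) (c : Γ(Spec (CommRingCat.of k), W)),
      δ (sX ⁻¹ᵁ W) (sX.app W c) = 0 := fun W c => by
    refine germ_ext (W := f ⁻¹ᵁ (sX ⁻¹ᵁ W)) (a := (show Γ(P, f ⁻¹ᵁ (sX ⁻¹ᵁ W)) from δ (sX ⁻¹ᵁ W) (sX.app W c)))
      (b := 0) fun hη => ?_
    haveI : Subsingleton ↥(Spec (CommRingCat.of k)) := inferInstanceAs (Subsingleton (PrimeSpectrum k))
    obtain rfl : W = ⊤ := Opens.ext (Set.eq_univ_of_forall fun x => Subsingleton.elim (sX (f (gen 1 k))) x ▸ hη)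
    obtain ⟨c', hc'⟩ := Gconst (sX ⁻¹ᵁ ⊤) ((Scheme.ΓSpecIso (CommRingCat.of k)).hom c)
    have e : sX.app ⊤ c = secHom k sX (sX ⁻¹ᵁ ⊤) ((Scheme.ΓSpecIso (CommRingCat.of k)).hom c) := by
      simp [secHom, Scheme.Hom.app_eq_appLE]
    show (P).presheaf.germ _ _ hη (DP _ (G _ (sX.app ⊤ c)) ^ q) = _
    rw [e, hc', P1.DP_secHom, zero_pow hq.ne']
  let Dd : OmegaSh.Der sX T :=
    { d := fun {U} => δ U.unop
      d_mul := fun {U} a b => δleib U.unop a b
      d_map := fun {U U'} i a => δres i.unop.le a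
      d_app := fun {W} c => δconst W.unop c }
  obtain ⟨α, hα, -⟩ := OmegaUnivLib.isUniversal_dOmega sX T Dd
  have hαd : ∀ V a, tv f α V (OmegaSh.dSect sX V a) = DP (f ⁻¹ᵁ V) (G V a) ^ q := fun V a =>
    congrArg (fun D : OmegaSh.Der sX T => D.app V a) hα
  -- the adjoint map vanishes
  let Λ := ((Scheme.Modules.pullbackPushforwardAdjunction f).homEquiv _ _).symm α
  have hΛ : ∀ (V : X.Opens) (W : (P).Opens) (hW : W ≤ f ⁻¹ᵁ V) (s : Γ(Omega.sheaf sX, V)),
      (P).presheaf.map (homOfLE hW).op (tv f α V s) =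
        (show Γ(P, W) from Λ.app W (pullMap f (Omega.sheaf sX) hW s)) := fun V W hW s => by
    have e : α = (Scheme.Modules.pullbackPushforwardAdjunction f).unit.app (Omega.sheaf sX) ≫
        (Scheme.Modules.pushforward f).map Λ :=
      ((((Scheme.Modules.pullbackPushforwardAdjunction f).homEquiv _ _).apply_symm_apply α).symm.trans
        (Adjunction.homEquiv_unit _ _ _ _))
    rw [e]
    exact (ConcreteCategory.congr_hom (Λ.mapPresheaf.naturality (homOfLE hW).op)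
      (((Scheme.Modules.pullbackPushforwardAdjunction f).unit.app (Omega.sheaf sX)).app V s)).symm
  obtain ⟨f₀, f₁, h₀, h₁, hdd⟩ := had
  have hdd' : ∀ a, γg (gen_mem 1 k) (f₁ a) = γg (gen_mem 1 k) (f₀ a) := fun a => by
    rw [hdd a, hd a, zpow_zero, one_smul]
  have hΛ₁ : ∀ a, (show Γ(P, U₁) from Λ.app U₁ (f₁ a)) = 0 := fun a => by
    obtain ⟨S, hS⟩ := exists_global f₀ f₁ h₀ hdd' a
    haveI := CompleteCurve.isProper_toSpec 1 k
    have hS0 : (show Γ(P, ⊤) from Λ.app ⊤ S) = 0 := by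
      refine eq_zero_of_evk_top sP P1.isClosed_q₀ _ ?_
      obtain ⟨V, n, e, hV, hxV, he⟩ := exists_affine_frame hΩ (f (P1.q₀ (k := k)))
      rw [← evk_res sP P1.isClosed_q₀ (show P1.q₀ (k := k) ∈ f ⁻¹ᵁ V from hxV) (le_top : f ⁻¹ᵁ V ≤ ⊤)]
      obtain ⟨c, hc⟩ := (SeesawVB.isFrame_pullMap f he (le_refl (f ⁻¹ᵁ V))).bijective.2
        (((Scheme.Modules.pullback f).obj (Omega.sheaf sX)).presheaf.map (homOfLE (le_top : f ⁻¹ᵁ V ≤ ⊤)).op S)
      rw [Fintype.linearCombination_apply] at hc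
      refine (congrArg (evk sP P1.isClosed_q₀ _) (ConcreteCategory.congr_hom (Λ.mapPresheaf.naturality (homOfLE (le_top : f ⁻¹ᵁ V ≤ ⊤)).op) S).symm).trans ?_
      refine (congrArg (fun z => evk sP P1.isClosed_q₀ (show P1.q₀ (k := k) ∈ f ⁻¹ᵁ V from hxV)
        (show Γ(P, f ⁻¹ᵁ V) from Λ.app (f ⁻¹ᵁ V) z)) hc.symm).trans ?_
      refine (congrArg (evk sP P1.isClosed_q₀ _) (map_sum (Λ.app (f ⁻¹ᵁ V)).hom _ _)).trans ?_
      refine (map_sum (evk sP P1.isClosed_q₀ _) _ _).trans (Finset.sum_eq_zero fun b _ => ?_)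
      refine (congrArg (evk sP P1.isClosed_q₀ _) ((Λ.app_smul (c b) _).trans rfl)).trans ?_
      refine (map_mul (evk sP P1.isClosed_q₀ _) (c b) _).trans (mul_eq_zero_of_right _ ?_)
      refine (congrArg (evk sP P1.isClosed_q₀ _) (hΛ V _ le_rfl (e b)).symm).trans ?_
      rw [evk_res]
      have hall : ∀ s ∈ Submodule.span Γ(X, V) (Set.range (OmegaSh.dSect sX V)),
          evk sP P1.isClosed_q₀ (show P1.q₀ (k := k) ∈ f ⁻¹ᵁ V from hxV) (tv f α V s) = 0 := fun s hs => by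
        induction hs using Submodule.span_induction with
        | mem y hy =>
          obtain ⟨a, rfl⟩ := hy
          rw [hαd, map_pow, (evk_eq_zero_iff sP P1.isClosed_q₀ _ _).2 (P1.DP_vanish (show P1.q₀ (k := k) ∈ f ⁻¹ᵁ V from hxV) (G V a)), zero_pow hq.ne']
        | zero => exact (congrArg (evk sP _ _) (map_zero (α.app V).hom)).trans (map_zero _)
        | add y z _ _ hy hz => rw [tv_add, map_add, hy, hz, add_zero]
        | smul c y _ hy => rw [tv_smul, map_mul, hy, mul_zero]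
      exact hall (e b) (OmegaUnivLib.span_dSect sX ⟨hV, ⊤, isAffineOpen_top _, le_top⟩ ▸ Submodule.mem_top)
    rw [← hS]
    refine (ConcreteCategory.congr_hom (Λ.mapPresheaf.naturality (homOfLE (le_top : U₁ ≤ ⊤)).op) S).trans ?_
    show (P).presheaf.map _ (show Γ(P, ⊤) from Λ.app ⊤ S) = 0
    rw [hS0, map_zero]
  -- the derivative of the root vanishes
  let W := f ⁻¹ᵁ V ⊓ U₁
  have hηW : gen 1 k ∈ W := ⟨hη, gen_mem 1 k⟩
  have hzero : (P).presheaf.map (homOfLE (inf_le_left : W ≤ f ⁻¹ᵁ V)).op (tv f α V (OmegaSh.dSect sX V h)) = 0 := by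
    rw [hΛ]
    obtain ⟨c, hc⟩ := (h₁.res (inf_le_right : W ≤ U₁)).bijective.2
      (pullMap f (Omega.sheaf sX) (inf_le_left : W ≤ f ⁻¹ᵁ V) (OmegaSh.dSect sX V h))
    rw [Fintype.linearCombination_apply] at hc
    rw [← hc]
    refine (map_sum (Λ.app W).hom _ _).trans (Finset.sum_eq_zero fun a _ => ?_)
    refine ((Λ.app_smul (c a) _).trans rfl).trans ?_
    refine (congrArg (c a • ·) (ConcreteCategory.congr_hom (Λ.mapPresheaf.naturality (homOfLE (inf_le_right : W ≤ U₁)).op) (f₁ a))).trans ?_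
    show c a * (P).presheaf.map _ (show Γ(P, U₁) from Λ.app U₁ (f₁ a)) = 0
    rw [hΛ₁, map_zero, mul_zero]
  rw [hαd] at hzero
  have hD : DP (f ⁻¹ᵁ V) (G V h) = 0 := germ_ext fun h' => by
    have e := congrArg (γP hηW) hzero
    rw [show γP hηW ((P).presheaf.map _ _) = γP h' _ from germ_res_gen _ hηW _, map_pow, map_zero] at e
    rw [map_zero]
    exact eq_zero_of_pow_eq_zero e
  obtain ⟨a, b, hb, ha', hb', hab⟩ := P1.exists_frac_derivative_zero hη (G V h) hD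
  exact ⟨a, b, hb, ha', hb', γP hη (G V h), hGq V h hη, hab⟩

end Groth.Agent.JetVanLib.Descent
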