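import Groth.Agent.OmegaDimLib.Main
import Mathlib.AlgebraicGeometry.AlgClosed.Basic
import Mathlib.AlgebraicGeometry.Morphisms.Proper

/-!
# Values of functions at closed points over an algebraically closed field
-/

set_option autoImplicit false
set_option linter.style.haveILetI false
set_option backward.isDefEq.respectTransparency false

universe u

open CategoryTheory AlgebraicGeometry TopologicalSpace Opposite
open Groth.Agent.OmegaDimLib

noncomputable section

namespace Groth.Agent.JetVanLib

variable {k : Type u} [Field k] [IsAlgClosed k] {P : Scheme.{u}} (s : P ⟶ Spec (CommRingCat.of k))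
  [LocallyOfFiniteType s]

/-- The value at a closed point of a function defined near it. -/
def evk {p : P} (hp : IsClosed ({p} : Set P)) {W : P.Opens} (hW : p ∈ W) : Γ(P, W) →+* k :=
  (Scheme.ΓSpecIso (CommRingCat.of k)).hom.hom.comp
    ((pointOfClosedPoint s p hp).appLE W ⊤ (fun x _ => by
      show (pointOfClosedPoint s p hp) x ∈ W
      rw [pointOfClosedPoint_apply]
      exact hW)).hom

theorem evk_res {p : P} (hp : IsClosed ({p} : Set P)) {W W' : P.Opens} (hW' : p ∈ W') (h : W' ≤ W) (g : Γ(P, W)) :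
    evk s hp hW' (P.presheaf.map (homOfLE h).op g) = evk s hp (h hW') g := by
  simp only [evk, RingHom.comp_apply, ← CommRingCat.comp_apply, Scheme.Hom.map_appLE]

theorem evk_secHom {p : P} (hp : IsClosed ({p} : Set P)) {W : P.Opens} (hW : p ∈ W) (c : k) :
    evk s hp hW (secHom k s W c) = c := by
  simp only [evk, secHom, RingHom.comp_apply, ← CommRingCat.comp_apply, Scheme.Hom.appLE_comp_appLE,
    pointOfClosedPoint_comp]
  have e : (𝟙 (Spec (CommRingCat.of k)) : _ ⟶ _).appLE ⊤ ⊤ le_top = 𝟙 _ := by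
    simp [Scheme.Hom.appLE]
  rw [e]
  simp

theorem evk_eq_zero_iff {p : P} (hp : IsClosed ({p} : Set P)) {W : P.Opens} (hW : p ∈ W) (g : Γ(P, W)) :
    evk s hp hW g = 0 ↔ p ∉ P.basicOpen g := by
  let π := pointOfClosedPoint s p hp
  have hle : (⊤ : (Spec (CommRingCat.of k)).Opens) ≤ π ⁻¹ᵁ W := fun x _ => by
    show π x ∈ W
    rw [pointOfClosedPoint_apply]
    exact hW
  have h := Scheme.basicOpen_appLE π ⊤ W hle g
  have hmem : p ∈ P.basicOpen g ↔ (Spec (CommRingCat.of k)).basicOpen (π.appLE W ⊤ hle g) ≠ ⊥ := by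
    rw [h]
    constructor
    · intro hpg hbot
      have hx : IsLocalRing.closedPoint k ∈ (⊤ ⊓ π ⁻¹ᵁ P.basicOpen g : (Spec (CommRingCat.of k)).Opens) :=
        ⟨trivial, by show π _ ∈ P.basicOpen g; rw [pointOfClosedPoint_apply]; exact hpg⟩
      rw [hbot] at hx
      exact hx
    · intro hne
      obtain ⟨x, -, hx⟩ : ∃ x, x ∈ (⊤ : Set (Spec (CommRingCat.of k))) ∧
          x ∈ ((⊤ ⊓ π ⁻¹ᵁ P.basicOpen g : (Spec (CommRingCat.of k)).Opens) : Set _) := by
        by_contra hc
        exact hne (Opens.ext (Set.eq_empty_of_forall_notMem fun x hx => hc ⟨x, trivial, hx⟩))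
      have hx' : π x ∈ P.basicOpen g := hx.2
      rwa [pointOfClosedPoint_apply] at hx'
  rw [← not_iff_not, not_not, hmem, ne_eq, basicOpen_eq_bot_iff]
  exact (map_ne_zero_iff _ (Scheme.ΓSpecIso (CommRingCat.of k)).commRingCatIsoToRingEquiv.injective)

include s in
/-- A function vanishing at all closed points other than a given one is zero. -/
theorem eq_zero_of_evk [IsIntegral P] {q : P} (hq : IsClosed ({q} : Set P)) (hne : q ≠ genericPoint P)
    {W : P.Opens} (g : Γ(P, W))
    (h : ∀ (p : P) (hp : IsClosed ({p} : Set P)) (hW : p ∈ W), p ≠ q → evk s hp hW g = 0) : g = 0 := by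
  haveI : JacobsonSpace P := LocallyOfFiniteType.jacobsonSpace s
  refine (basicOpen_eq_bot_iff g).1 (Opens.ext (Set.eq_empty_of_forall_notMem fun x hx => ?_))
  have hη : genericPoint P ∈ P.basicOpen g := ((genericPoint_spec P).specializes trivial).mem_open (P.basicOpen g).2 hx
  obtain ⟨p, hp, hpc⟩ := nonempty_inter_closedPoints (Z := (P.basicOpen g : Set P) ∩ {q}ᶜ)
    ⟨genericPoint P, hη, hne.symm⟩ (((P.basicOpen g).2.inter hq.isOpen_compl).isLocallyClosed)
  exact ((evk_eq_zero_iff s hpc (P.basicOpen_le g hp.1) g).1 (h p hpc _ hp.2)) hp.1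

include s in
/-- A global function on a proper integral scheme vanishing at a point is zero. -/
theorem eq_zero_of_evk_top [IsIntegral P] [IsProper s] {q : P} (hq : IsClosed ({q} : Set P)) (g : Γ(P, ⊤))
    (h : evk s hq (W := ⊤) trivial g = 0) : g = 0 := by
  by_contra hg
  obtain ⟨g', hg'⟩ := (isField_of_universallyClosed k s).mul_inv_cancel hg
  have h1 := congrArg (evk s hq (W := ⊤) trivial) hg'
  rw [map_mul, h, zero_mul, map_one] at h1
  exact zero_ne_one h1

end Groth.Agent.JetVanLib
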