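import Mathlib.RingTheory.MvPolynomial.Ideal
import Mathlib.RingTheory.Smooth.Basic
import Mathlib.RingTheory.Ideal.Quotient.Nilpotent
import Mathlib.LinearAlgebra.Basis.VectorSpace

/-!
# Truncated Taylor expansions along prescribed first-order data
-/

set_option autoImplicit false
set_option linter.style.haveILetI false
set_option backward.isDefEq.respectTransparency false

universe u

open MvPolynomial

noncomputable section

namespace Groth.Agent.JetVanLib

/-- Polynomials in `N` variables modulo degree `> j`. -/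
abbrev QT (B : Type u) [CommRing B] (N j : ℕ) : Type u :=
  MvPolynomial (Fin N) B ⧸ idealOfVars (Fin N) B ^ (j + 1)

variable {B : Type u} [CommRing B] {N j : ℕ}

/-- The ideal of the variables. -/
def aug (B : Type u) [CommRing B] (N j : ℕ) : Ideal (QT B N j) :=
  (idealOfVars (Fin N) B).map (Ideal.Quotient.mk _)

theorem aug_pow (n : ℕ) :
    aug B N j ^ n = (idealOfVars (Fin N) B ^ n).map (Ideal.Quotient.mk _) := (Ideal.map_pow _ _ n).symm

theorem aug_pow_succ : aug B N j ^ (j + 1) = ⊥ := by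
  rw [aug_pow]
  exact Ideal.map_quotient_self _

/-- A coefficient of degree at most `j`. -/
def cf (α : Fin N →₀ ℕ) (q : QT B N j) : B := coeff α (Quotient.out q)

theorem cf_mk {α : Fin N →₀ ℕ} (hα : Finsupp.degree α ≤ j) (P : MvPolynomial (Fin N) B) :
    cf α (Ideal.Quotient.mk _ P : QT B N j) = coeff α P := by
  have h : Ideal.Quotient.mk (idealOfVars (Fin N) B ^ (j + 1))
      (Quotient.out (Ideal.Quotient.mk _ P : QT B N j)) = Ideal.Quotient.mk _ P := Quotient.out_eq _
  rw [Ideal.Quotient.eq, mem_pow_idealOfVars_iff'] at h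
  have h1 := h α (by omega)
  rw [coeff_sub, sub_eq_zero] at h1
  exact h1

theorem eq_zero_of_cf {q : QT B N j} (hq : q ∈ aug B N j ^ j)
    (h : ∀ α : Fin N →₀ ℕ, Finsupp.degree α = j → cf α q = 0) : q = 0 := by
  rw [aug_pow, Ideal.mem_map_iff_of_surjective _ Ideal.Quotient.mk_surjective] at hq
  obtain ⟨P, hP, rfl⟩ := hq
  rw [Ideal.Quotient.eq_zero_iff_mem, mem_pow_idealOfVars_iff']
  intro α hα
  rcases Nat.lt_or_ge (Finsupp.degree α) j with h1 | h1
  · exact (mem_pow_idealOfVars_iff' j P).1 hP α h1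
  · have h2 := h α (by omega)
    rwa [cf_mk (by omega)] at h2

theorem cf_add {α : Fin N →₀ ℕ} (hα : Finsupp.degree α ≤ j) (p q : QT B N j) :
    cf α (p + q) = cf α p + cf α q := by
  obtain ⟨P, rfl⟩ := Ideal.Quotient.mk_surjective p
  obtain ⟨Q, rfl⟩ := Ideal.Quotient.mk_surjective q
  rw [← map_add, cf_mk hα, cf_mk hα, cf_mk hα, coeff_add]

theorem cf_zero {α : Fin N →₀ ℕ} (hα : Finsupp.degree α ≤ j) : cf α (0 : QT B N j) = 0 := by
  rw [← map_zero (Ideal.Quotient.mk (idealOfVars (Fin N) B ^ (j + 1))), cf_mk hα, coeff_zero]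

theorem cf_sum {α : Fin N →₀ ℕ} (hα : Finsupp.degree α ≤ j) {ι : Type*} (s : Finset ι) (p : ι → QT B N j) :
    cf α (∑ i ∈ s, p i) = ∑ i ∈ s, cf α (p i) := by
  classical
  induction s using Finset.induction_on with
  | empty => simp [cf_zero hα]
  | insert a s ha ih => rw [Finset.sum_insert ha, Finset.sum_insert ha, cf_add hα, ih]

theorem cf_C_mul {α : Fin N →₀ ℕ} (hα : Finsupp.degree α ≤ j) (b : B) (q : QT B N j) :
    cf α (Ideal.Quotient.mk _ (C b) * q) = b * cf α q := by
  obtain ⟨Q, rfl⟩ := Ideal.Quotient.mk_surjective q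
  rw [← map_mul, cf_mk hα, cf_mk hα, coeff_C_mul]

variable {B' : Type u} [CommRing B'] (ε : B →+* B')

theorem map_idealOfVars_le : (idealOfVars (Fin N) B).map (MvPolynomial.map ε) ≤ idealOfVars (Fin N) B' := by
  rw [Ideal.map_span, Ideal.span_le]
  rintro _ ⟨_, ⟨l, rfl⟩, rfl⟩
  exact Ideal.subset_span ⟨l, (map_X ε l).symm⟩

/-- Change of coefficients. -/
def qmap : QT B N j →+* QT B' N j :=
  Ideal.quotientMap _ (MvPolynomial.map ε) (Ideal.map_le_iff_le_comap.1 (by
    rw [Ideal.map_pow]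
    exact Ideal.pow_right_mono (map_idealOfVars_le ε) _))

theorem qmap_mk (P : MvPolynomial (Fin N) B) :
    qmap (j := j) ε (Ideal.Quotient.mk _ P) = Ideal.Quotient.mk _ (MvPolynomial.map ε P) :=
  Ideal.quotientMap_mk

theorem qmap_aug_le : (aug B N j).map (qmap (N := N) (j := j) ε) ≤ aug B' N j := by
  rw [aug, Ideal.map_map]
  have h : (qmap (N := N) (j := j) ε).comp (Ideal.Quotient.mk _) = (Ideal.Quotient.mk _).comp (MvPolynomial.map ε) :=
    RingHom.ext fun P => qmap_mk ε P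
  rw [h, ← Ideal.map_map]
  exact Ideal.map_mono (map_idealOfVars_le ε)

theorem cf_qmap {α : Fin N →₀ ℕ} (hα : Finsupp.degree α ≤ j) (q : QT B N j) :
    cf α (qmap ε q) = ε (cf α q) := by
  obtain ⟨P, rfl⟩ := Ideal.Quotient.mk_surjective q
  rw [qmap_mk, cf_mk hα, cf_mk hα, coeff_map]

variable {R : Type u} [CommRing R]

/-- The first-order part of an expansion. -/
def lin1 (φ : R → B) (D : R → Fin N → B) (r : R) : MvPolynomial (Fin N) B :=
  C (φ r) + ∑ l, C (D r l) * X l

/-- An expansion with prescribed first-order part. -/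
def Lin (φ : R → B) (D : R → Fin N → B) (E : R →+* QT B N j) : Prop :=
  ∀ r, E r - Ideal.Quotient.mk _ (lin1 φ D r) ∈ aug B N j ^ 2

variable {φ : R → B} {D : R → Fin N → B} {E E' : R →+* QT B N j}

theorem Lin.map (h : Lin φ D E) : Lin (fun r => ε (φ r)) (fun r l => ε (D r l)) ((qmap ε).comp E) := fun r => by
  have h1 := Ideal.mem_map_of_mem (qmap ε) (h r)
  rw [Ideal.map_pow, map_sub, qmap_mk] at h1
  have h2 := Ideal.pow_right_mono (qmap_aug_le ε) 2 h1
  show qmap ε (E r) - Ideal.Quotient.mk _ (lin1 _ _ r) ∈ _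
  simp only [lin1, map_add, map_sum, map_mul, MvPolynomial.map_C, MvPolynomial.map_X] at h2 ⊢
  exact h2

theorem Lin.comp (h : Lin φ D E) {R' : Type u} [CommRing R'] (ρ : R' →+* R) :
    Lin (fun r => φ (ρ r)) (fun r l => D (ρ r) l) (E.comp ρ) := fun r => h (ρ r)

theorem mk_sum_mem (D : R → Fin N → B) (r : R) :
    (Ideal.Quotient.mk _ (∑ l, C (D r l) * X l) : QT B N j) ∈ aug B N j :=
  Ideal.mem_map_of_mem _ (Ideal.sum_mem _ fun l _ => Ideal.mul_mem_left _ _ (Ideal.subset_span ⟨l, rfl⟩))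

theorem Lin.sub_C_mem (h : Lin φ D E) (r : R) : E r - Ideal.Quotient.mk _ (C (φ r)) ∈ aug B N j := by
  have h1 := add_mem (Ideal.pow_le_self (two_ne_zero) (h r)) (mk_sum_mem (j := j) D r)
  rw [lin1, map_add] at h1
  convert h1 using 1
  ring

/-- Two ring homomorphisms close to each other agree on powers. -/
theorem agree_on_pow {A : Type*} [CommRing A] (𝔞 : Ideal A) (f g : R →+* A) (m : Ideal R)
    (hm : ∀ a ∈ m, f a ∈ 𝔞 ∧ g a ∈ 𝔞) (h1 : ∀ r, f r - g r ∈ 𝔞) (h2 : ∀ a ∈ m, f a - g a ∈ 𝔞 ^ 2) :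
    ∀ (n : ℕ), ∀ r ∈ m ^ n, f r ∈ 𝔞 ^ n ∧ g r ∈ 𝔞 ^ n ∧ f r - g r ∈ 𝔞 ^ (n + 1) := by
  intro n
  induction n with
  | zero =>
    intro r _
    exact ⟨by simp, by simp, by rw [zero_add, pow_one]; exact h1 r⟩
  | succ n ih =>
    intro r hr
    rw [pow_succ] at hr
    refine Submodule.mul_induction_on hr (fun b hb a ha => ?_) fun x y hx hy => ?_
    · obtain ⟨hf, hg, hd⟩ := ih b hb
      refine ⟨?_, ?_, ?_⟩
      · rw [map_mul, pow_succ]
        exact Ideal.mul_mem_mul hf (hm a ha).1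
      · rw [map_mul, pow_succ]
        exact Ideal.mul_mem_mul hg (hm a ha).2
      · rw [map_mul, map_mul, show f b * f a - g b * g a = (f b - g b) * f a + g b * (f a - g a) by ring]
        refine add_mem ?_ ?_
        · rw [pow_succ]
          exact Ideal.mul_mem_mul hd (hm a ha).1
        · rw [show n + 1 + 1 = n + 2 from rfl, pow_add]
          exact Ideal.mul_mem_mul hg (h2 a ha)
    · obtain ⟨a1, a2, a3⟩ := hx
      obtain ⟨b1, b2, b3⟩ := hy
      refine ⟨?_, ?_, ?_⟩
      · rw [map_add]; exact add_mem a1 b1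
      · rw [map_add]; exact add_mem a2 b2
      · rw [map_add, map_add, show f x + f y - (g x + g y) = (f x - g x) + (f y - g y) by ring]
        exact add_mem a3 b3

variable {k : Type u} [Field k] {χ : R →+* k} {ℓ : R → Fin N → k} {F F' : R →+* QT k N j}

theorem Lin.mem_aug (h : Lin χ ℓ F) {a : R} (ha : χ a = 0) : F a ∈ aug k N j := by
  have h1 := h.sub_C_mem a
  rwa [ha, map_zero, map_zero, sub_zero] at h1

/-- Expansions with the same first order agree in degree `j` at order `j`. -/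
theorem Lin.agree (h : Lin χ ℓ F) (h' : Lin χ ℓ F') {r : R} (hr : r ∈ RingHom.ker χ ^ j) :
    F r = F' r ∧ F r ∈ aug k N j ^ j := by
  obtain ⟨a, -, c⟩ := agree_on_pow (aug k N j) F F' (RingHom.ker χ)
    (fun a ha => ⟨h.mem_aug ha, h'.mem_aug ha⟩)
    (fun r => by
      have h1 := sub_mem (h.sub_C_mem r) (h'.sub_C_mem r)
      rwa [sub_sub_sub_cancel_right] at h1)
    (fun a _ => by
      have h1 := sub_mem (h a) (h' a)
      rwa [sub_sub_sub_cancel_right] at h1) j r hr
  rw [aug_pow_succ, Ideal.mem_bot, sub_eq_zero] at c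
  exact ⟨c, a⟩

variable [Algebra k R]

/-- An element of order `j` with vanishing expansion has order `j + 1`. -/
theorem Lin.mem_succ (hχ : ∀ c : k, χ (algebraMap k R c) = c) (ℓ' : R →ₗ[k] (Fin N → k)) (hℓ' : ∀ r, ℓ' r = ℓ r)
    (hinj : ∀ a, χ a = 0 → ℓ a = 0 → a ∈ RingHom.ker χ ^ 2)
    (h : Lin χ ℓ F) {r : R} (hr : r ∈ RingHom.ker χ ^ j) (h0 : F r = 0) : r ∈ RingHom.ker χ ^ (j + 1) := by
  let m := RingHom.ker χ
  let K : Submodule k R := m.restrictScalars k
  let L : K →ₗ[k] (Fin N → k) := ℓ'.comp K.subtype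
  obtain ⟨s, hs⟩ := LinearMap.exists_rightInverse_of_surjective L.rangeRestrict L.range_rangeRestrict
  obtain ⟨t, ht⟩ := LinearMap.exists_extend s
  let a : Fin N → R := fun l => (t (Pi.single l 1) : K)
  let ρ : MvPolynomial (Fin N) k →+* R := MvPolynomial.eval₂Hom (algebraMap k R) a
  have hρ : (idealOfVars (Fin N) k).map ρ ≤ m := by
    rw [Ideal.map_span, Ideal.span_le]
    rintro _ ⟨_, ⟨l, rfl⟩, rfl⟩
    simpa [ρ, a] using (t (Pi.single l 1) : K).2
  have hρj : idealOfVars (Fin N) k ^ (j + 1) ≤ (m ^ (j + 1)).comap ρ := by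
    rw [← Ideal.map_le_iff_le_comap, Ideal.map_pow]
    exact Ideal.pow_right_mono hρ _
  let ρ' : QT k N j →+* R ⧸ m ^ (j + 1) := Ideal.quotientMap _ ρ hρj
  let 𝔞 : Ideal (R ⧸ m ^ (j + 1)) := m.map (Ideal.Quotient.mk _)
  have h𝔞 : (aug k N j).map ρ' ≤ 𝔞 := by
    rw [aug, Ideal.map_map]
    have e : ρ'.comp (Ideal.Quotient.mk _) = (Ideal.Quotient.mk (m ^ (j + 1))).comp ρ :=
      RingHom.ext fun P => Ideal.quotientMap_mk (H := hρj)
    rw [e, ← Ideal.map_map]
    exact Ideal.map_mono hρ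
  have hval : ∀ x : R, ρ' (Ideal.Quotient.mk _ (lin1 χ ℓ x)) =
      Ideal.Quotient.mk _ (algebraMap k R (χ x) + ∑ l, algebraMap k R (ℓ x l) * a l) := fun x => by
    show Ideal.quotientMap _ ρ hρj (Ideal.Quotient.mk _ _) = _
    rw [Ideal.quotientMap_mk]
    simp [ρ, lin1]
  have hq : ∀ x : R, ρ' (F x) - ρ' (Ideal.Quotient.mk _ (lin1 χ ℓ x)) ∈ 𝔞 ^ 2 := fun x => by
    have h1 := Ideal.mem_map_of_mem ρ' (h x)
    rw [Ideal.map_pow, map_sub] at h1
    exact Ideal.pow_right_mono h𝔞 2 h1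
  obtain ⟨-, -, c⟩ := agree_on_pow 𝔞 (ρ'.comp F) (Ideal.Quotient.mk _) m
    (fun x hx => ⟨h𝔞 (Ideal.mem_map_of_mem ρ' (h.mem_aug hx)), Ideal.mem_map_of_mem _ hx⟩)
    (fun x => by
      have h1 : x - (algebraMap k R (χ x) + ∑ l, algebraMap k R (ℓ x l) * a l) ∈ m := by
        show χ _ = 0
        have ha : ∀ l, χ (a l) = 0 := fun l => (t (Pi.single l 1) : K).2
        simp [hχ, ha]
      have h2 := add_mem (Ideal.pow_le_self two_ne_zero (hq x)) (neg_mem (Ideal.mem_map_of_mem (Ideal.Quotient.mk (m ^ (j + 1))) h1))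
      rw [hval, map_sub] at h2
      show ρ' (F x) - _ ∈ 𝔞
      convert h2 using 1
      ring)
    (fun x hx => by
      have hx0 : χ x = 0 := hx
      have hb : ∑ l, algebraMap k R (ℓ x l) * a l = ((t (ℓ x)) : K) := by
        conv_rhs => rw [pi_eq_sum_univ' (ℓ x), map_sum, Submodule.coe_sum]
        refine Finset.sum_congr rfl fun l _ => ?_
        rw [map_smul, Submodule.coe_smul, Algebra.smul_def]
      have h1 : x - (algebraMap k R (χ x) + ∑ l, algebraMap k R (ℓ x l) * a l) ∈ m ^ 2 := by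
        rw [hx0, map_zero, zero_add, hb]
        refine hinj _ ?_ ?_
        · rw [map_sub, hx0, (t (ℓ x)).2, sub_zero]
        · rw [← hℓ', map_sub, sub_eq_zero]
          have hmem : ℓ' x ∈ LinearMap.range L := ⟨⟨x, hx⟩, rfl⟩
          have e1 : t (ℓ' x) = s ⟨ℓ' x, hmem⟩ := LinearMap.congr_fun ht ⟨ℓ' x, hmem⟩
          have e2 : L (s ⟨ℓ' x, hmem⟩) = ℓ' x :=
            congrArg Subtype.val (LinearMap.congr_fun hs (⟨ℓ' x, hmem⟩ : LinearMap.range L))
          rw [← hℓ' x, e1]
          exact e2.symm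
      have h1' := Ideal.mem_map_of_mem (Ideal.Quotient.mk (m ^ (j + 1))) h1
      rw [Ideal.map_pow] at h1'
      have h2 : _ ∈ 𝔞 ^ 2 := add_mem (hq x) (neg_mem h1')
      rw [hval, map_sub] at h2
      show ρ' (F x) - _ ∈ 𝔞 ^ 2
      convert h2 using 1
      ring) j r hr
  rw [RingHom.comp_apply, h0, map_zero, zero_sub, neg_mem_iff, ← Ideal.map_pow, Ideal.map_quotient_self,
    Ideal.mem_bot, Ideal.Quotient.eq_zero_iff_mem] at c
  exact c

omit [Algebra k R]

/-- Expansions exist for formally smooth algebras. -/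
theorem exists_lin [Algebra k R] [Algebra.FormallySmooth k R] [Algebra k B] (φ : R →ₐ[k] B)
    (D : R →ₗ[k] (Fin N → B)) (hD : ∀ a b l, D (a * b) l = φ a * D b l + φ b * D a l) (j : ℕ) :
    ∃ E : R →+* QT B N j, Lin φ (fun r => D r) E := by
  let I := idealOfVars (Fin N) B
  let J : Ideal (QT B N j) := aug B N j ^ 2
  have hD1 : D (1 : R) = 0 := funext fun l => by
    have h := hD (1 : R) 1 l
    rw [mul_one, map_one φ, one_mul, left_eq_add] at h
    exact h
  let L : R → QT B N j ⧸ J := fun r => Ideal.Quotient.mk J (Ideal.Quotient.mk _ (lin1 φ (fun r => D r) r))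
  let g : R →ₐ[k] QT B N j ⧸ J :=
    { toFun := L
      map_one' := by simp [L, lin1, hD1]
      map_zero' := by simp [L, lin1]
      map_add' := fun a b => by
        simp only [L, lin1, ← map_add]
        congr 2
        simp only [map_add, Pi.add_apply, add_mul, Finset.sum_add_distrib]
        ring
      map_mul' := fun a b => by
        show L (a * b) = L a * L b
        simp only [L, ← map_mul]
        rw [Ideal.Quotient.eq, ← map_sub]
        show _ ∈ aug B N j ^ 2
        rw [aug_pow]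
        refine Ideal.mem_map_of_mem _ ?_
        have e : lin1 φ (fun r => D r) (a * b) - lin1 φ (fun r => D r) a * lin1 φ (fun r => D r) b =
            -((∑ l, C (D a l) * X l) * ∑ l, C (D b l) * X l) := by
          simp only [lin1, map_mul]
          have e2 : (∑ l, C (D (a * b) l) * X l : MvPolynomial (Fin N) B) =
              C (φ a) * (∑ l, C (D b l) * X l) + C (φ b) * ∑ l, C (D a l) * X l := by
            rw [Finset.mul_sum, Finset.mul_sum, ← Finset.sum_add_distrib]
            refine Finset.sum_congr rfl fun l _ => ?_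
            rw [hD, map_add, map_mul, map_mul]
            ring
          rw [e2]
          ring
        rw [e, neg_mem_iff, pow_two]
        exact Ideal.mul_mem_mul
          (Ideal.sum_mem _ fun l _ => Ideal.mul_mem_left _ _ (Ideal.subset_span ⟨l, rfl⟩))
          (Ideal.sum_mem _ fun l _ => Ideal.mul_mem_left _ _ (Ideal.subset_span ⟨l, rfl⟩))
      commutes' := fun c => by
        show L (algebraMap k R c) = _
        have h0 : D (algebraMap k R c) = 0 := by rw [Algebra.algebraMap_eq_smul_one, map_smul, hD1, smul_zero]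
        simp only [L, lin1, h0, φ.commutes, Pi.zero_apply, map_zero, zero_mul, Finset.sum_const_zero, add_zero]
        rfl }
  have hnil : IsNilpotent J := ⟨j + 1, by
    show (aug B N j ^ 2) ^ (j + 1) = ⊥
    rw [← pow_mul, eq_bot_iff]
    exact (Ideal.pow_le_pow_right (by omega)).trans (aug_pow_succ).le⟩
  refine ⟨(Algebra.FormallySmooth.lift J hnil g).toRingHom, fun r => ?_⟩
  exact Ideal.Quotient.eq.1 (Algebra.FormallySmooth.mk_lift J hnil g r)

end Groth.Agent.JetVanLib
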