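import Groth.Agent.JetVanLib.P1
import Groth.Agent.FundLocIsoLib.ProjTopForms
import Groth.Agent.KVbLib.Lam
import Groth.Agent.OmegaUnivLib.Univ
import Groth.Agent.BertiniProjLib.Basic
import Groth.Agent.DegDevLib.Det
import Groth.Agent.CompleteCurve.ProjSpace
import Mathlib.RingTheory.Polynomial.UniqueFactorization
import Mathlib.FieldTheory.Perfect

/-!
# The derivation of the projective line and roots of functions
-/

set_option autoImplicit false
set_option linter.style.haveILetI false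
set_option linter.unusedSectionVars false
set_option backward.isDefEq.respectTransparency false
set_option maxHeartbeats 1000000

universe u

open CategoryTheory CategoryTheory.Limits AlgebraicGeometry TopologicalSpace Opposite
open Groth.Agent.AmpleEmb Groth.Agent.PicProjLib Groth.Agent.SplitP1Lib Groth.Agent.PullbackMod
open Groth.Agent.DegDevLib (IsFrame)
open Groth.Agent.OmegaDimLib

noncomputable section

namespace Groth.Agent.JetVanLib.P1

variable {k : Type u} [Field k]

local notation "P" => CohB1.ProjSpace 1 k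
local notation "sP" => CohB1.ProjSpace.toSpec 1 k
local notation "U₀" => stdOpen 1 k (0 : Fin 2)
local notation "U₁" => stdOpen 1 k (1 : Fin 2)

instance quasiSeparated_toSpec : QuasiSeparated (CohB1.ProjSpace.toSpec 1 k) :=
  haveI := CompleteCurve.isProper_toSpec 1 k
  inferInstance

/-- The functional on the differentials of the line. -/
theorem exists_omegaFun : ∃ ψ : Omega.sheaf sP ⟶ Coh.structureModule P,
    ∀ (W : (P).Opens) (s : Γ(Omega.sheaf sP, W)),
      (∀ hW : W ≤ U₀, ∃ c : Γ(P, W), (show Γ(P, W) from ψ.app W s) = c * (P).presheaf.map (homOfLE hW).op (coordRatio 1 k (0 : Fin 2) 1)) ∧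
      (∀ hW : W ≤ U₁, (show Γ(P, W) from ψ.app W s) = 0 → s = 0) := by
  classical
  obtain ⟨g, hg, hc⟩ := FundLocIsoLib.hasDeg_topForms (n := 1) (k := k) (KVb.isExtPow_one (Omega.sheaf sP))
  obtain ⟨r, hr⟩ := hc (1 : Fin 2)
  let c : Γ(P, U₁) := chartEquiv 1 k 1 (MvPolynomial.C ((r : kˣ) : k))
  have hcu : IsUnit c := (r.isUnit.map MvPolynomial.C).map (chartEquiv 1 k 1)
  let f₀ : Fin 1 → Γ(Omega.sheaf sP, U₀) := fun _ => g 0
  let f₁ : Fin 1 → Γ(Omega.sheaf sP, U₁) := fun _ => c • g 1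
  let d : Fin 1 → ℤ := fun _ => -2
  have h₀ : IsFrame U₀ f₀ := DegDevLib.gen_frame (hg 0)
  have h₁ : IsFrame U₁ f₁ := DegDevLib.gen_frame ((hg 1).smul hcu)
  have hdd : ∀ a, γg (gen_mem 1 k) (f₁ a) = t 1 k 0 1 ^ d a • γg (gen_mem 1 k) (f₀ a) := fun a => by
    show _ = t 1 k 0 1 ^ (-2 : ℤ) • γ (g 0)
    have h1 : (Omega.sheaf sP).presheaf.germ U₁ (gen 1 k) (gen_mem 1 k) (c • g 1) = cst 1 k r • γ (g 1) := by
      rw [cst, φ_C 1 k 0 1]
      exact PresheafOfModules.germ_smul (R := (P).presheaf) (Omega.sheaf sP).val _ _ _ _ _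
    refine Eq.trans h1 ?_
    rw [hr, smul_smul]
    congr 1
    rw [mul_left_comm, show (-(((1 : ℕ) : ℤ) + 1) : ℤ) = -2 by norm_num, ← mul_zpow, t_mul, t_self, one_zpow, _root_.mul_one]
  obtain ⟨ψ, hψ₁, hψ₀⟩ := exists_coordFun f₀ f₁ h₀ h₁ hdd (a := (0 : Fin 1)) (show (-2 : ℤ) ≤ 0 by norm_num)
  refine ⟨ψ, fun W s => ⟨fun hW => ?_, fun hW h => ?_⟩⟩
  · obtain ⟨a, ha⟩ := (h₀.res hW).bijective.2 s
    refine ⟨a 0 * (P).presheaf.map (homOfLE hW).op (coordRatio 1 k (0 : Fin 2) 1), ?_⟩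
    rw [← ha, Fintype.linearCombination_apply, Fin.sum_univ_one]
    refine ((ψ.app_smul (a 0) _).trans ?_)
    refine (congrArg (a 0 * ·) (hψ₀ W hW 0)).trans ?_
    rw [if_pos rfl, show (- d 0).toNat = 2 from rfl, pow_two, map_mul, ← mul_assoc]
  · obtain ⟨a, ha⟩ := (h₁.res hW).bijective.2 s
    rw [← ha, Fintype.linearCombination_apply, Fin.sum_univ_one] at h ⊢
    have h2 : a 0 = 0 := by
      refine Eq.trans ?_ h
      refine Eq.trans ?_ (ψ.app_smul (a 0) _).symm
      refine Eq.trans ?_ (congrArg (a 0 * ·) (hψ₁ W hW 0)).symm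
      rw [if_pos rfl, _root_.mul_one]
    rw [h2, zero_smul]

/-- The functional. -/
def ωFun : Omega.sheaf sP ⟶ Coh.structureModule P := (exists_omegaFun (k := k)).choose

/-- The derivation of the line vanishing at the point at infinity. -/
def DP (W : (P).Opens) : Γ(P, W) →+ Γ(P, W) :=
  AddMonoidHom.mk' (fun g => (show Γ(P, W) from ωFun.app W (OmegaSh.dSect sP W g))) fun a b => by
    rw [OmegaSh.dSect_add]
    exact map_add (ωFun.app W).hom _ _

theorem DP_mul (W : (P).Opens) (a b : Γ(P, W)) : DP W (a * b) = a * DP W b + b * DP W a := by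
  show (show Γ(P, W) from ωFun.app W (OmegaSh.dSect sP W (a * b))) = _
  rw [OmegaSh.dSect_mul]
  refine (map_add (ωFun.app W).hom _ _).trans ?_
  exact congrArg₂ (· + ·) ((ωFun.app_smul a _).trans rfl) ((ωFun.app_smul b _).trans rfl)

theorem DP_res {W W' : (P).Opens} (h : W' ≤ W) (a : Γ(P, W)) :
    DP W' ((P).presheaf.map (homOfLE h).op a) = (P).presheaf.map (homOfLE h).op (DP W a) := by
  show (show Γ(P, W') from ωFun.app W' (OmegaSh.dSect sP W' _)) = _
  rw [OmegaSh.dSect_map sP h]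
  exact ConcreteCategory.congr_hom (ωFun.mapPresheaf.naturality (homOfLE h).op) _

theorem DP_secHom (W : (P).Opens) (c : k) : DP W (secHom k sP W c) = 0 := by
  show (show Γ(P, W) from ωFun.app W (OmegaSh.dSect sP W ((sP).appLE ⊤ W le_top ((Scheme.ΓSpecIso (CommRingCat.of k)).inv c)))) = 0
  rw [OmAff.dSect_appLE]
  exact map_zero (ωFun.app W).hom

theorem DP_vanish {W : (P).Opens} (hW : q₀ (k := k) ∈ W) (a : Γ(P, W)) : q₀ (k := k) ∉ (P).basicOpen (DP W a) := by
  intro hmem
  obtain ⟨c, hc⟩ := ((exists_omegaFun (k := k)).choose_spec (W ⊓ U₀)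
    (OmegaSh.dSect sP (W ⊓ U₀) ((P).presheaf.map (homOfLE inf_le_left).op a))).1 inf_le_right
  have e : (P).presheaf.map (homOfLE (inf_le_left : W ⊓ U₀ ≤ W)).op (DP W a) =
      c * (P).presheaf.map (homOfLE (inf_le_right : W ⊓ U₀ ≤ U₀)).op (coordRatio 1 k (0 : Fin 2) 1) :=
    (DP_res inf_le_left a).symm.trans hc
  have h1 : q₀ (k := k) ∈ (P).basicOpen ((P).presheaf.map (homOfLE (inf_le_left : W ⊓ U₀ ≤ W)).op (DP W a)) := by
    rw [Scheme.basicOpen_res]
    exact ⟨⟨hW, q₀_mem⟩, hmem⟩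
  rw [e, Scheme.basicOpen_mul, Scheme.basicOpen_res, basicOpen_coordRatio] at h1
  exact (mem_U₁_iff _).1 h1.2.2.2 rfl

theorem secP_C (c : k) : secP (k := k) (1 : Fin 2) (Polynomial.C c) = secHom k sP U₁ c := by
  show chartEquiv 1 k 1 (oneVar (Polynomial.C c)) = _
  rw [show oneVar (k := k) (Polynomial.C c) = MvPolynomial.C c by simp [oneVar]]
  rw [BertiniProjLib.chartEquiv_C]
  simp only [Coh.toGlobal, secHom, RingHom.comp_apply]
  rfl

theorem DP_secP (a : Polynomial k) :
    DP U₁ (secP (k := k) 1 a) = secP 1 (Polynomial.derivative a) * DP U₁ (secP 1 Polynomial.X) := by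
  induction a using Polynomial.induction_on with
  | C c => rw [secP_C, DP_secHom, Polynomial.derivative_C, map_zero, zero_mul]
  | add a b ha hb => rw [map_add, map_add, ha, hb, Polynomial.derivative_add, map_add, add_mul]
  | monomial n c ih =>
    have e : Polynomial.derivative (Polynomial.C c * Polynomial.X ^ (n + 1)) =
        Polynomial.derivative (Polynomial.C c * Polynomial.X ^ n) * Polynomial.X + Polynomial.C c * Polynomial.X ^ n := by
      rw [pow_succ, ← mul_assoc]
      simp only [Polynomial.derivative_mul, Polynomial.derivative_X, mul_one]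
    rw [e, pow_succ, ← mul_assoc, map_mul (secP (k := k) 1), DP_mul, ih, map_add,
      map_mul (secP (k := k) 1) (Polynomial.derivative _) Polynomial.X]
    ring

theorem DP_X_ne_zero : DP U₁ (secP (k := k) 1 Polynomial.X) ≠ 0 := by
  intro h
  have hz : ∀ b : Γ(P, U₁), OmegaSh.dSect sP U₁ b = 0 := fun b => by
    obtain ⟨a, rfl⟩ := secP_surjective (1 : Fin 2) b
    refine ((exists_omegaFun (k := k)).choose_spec U₁ _).2 le_rfl ?_
    show DP U₁ (secP 1 a) = 0
    rw [DP_secP, h, mul_zero]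
  have hspan := OmegaUnivLib.span_dSect sP (U := U₁)
    ⟨isAffineOpen_stdOpen 1 k (1 : Fin 2), ⊤, isAffineOpen_top _, le_top⟩
  obtain ⟨g, hg, -⟩ := FundLocIsoLib.hasDeg_topForms (n := 1) (k := k) (KVb.isExtPow_one (Omega.sheaf sP))
  have h1 : g 1 ∈ Submodule.span Γ(P, U₁) (Set.range (OmegaSh.dSect sP U₁)) := hspan ▸ Submodule.mem_top
  rw [show Set.range (OmegaSh.dSect sP U₁) = {0} from Set.eq_singleton_iff_nonempty_unique_mem.2
    ⟨⟨_, 0, rfl⟩, by rintro _ ⟨b, rfl⟩; exact hz b⟩, Submodule.span_zero_singleton, Submodule.mem_bot] at h1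
  have h2 := ((DegDevLib.gen_frame (hg 1)).bijective.1 (a₁ := fun _ => 1) (a₂ := 0) (by
    simp [Fintype.linearCombination_apply, h1]))
  exact one_ne_zero ((map_one ((P).presheaf.germ U₁ (gen 1 k) (gen_mem 1 k)).hom).symm.trans
    ((congrArg _ (congrFun h2 0)).trans (map_zero _)))

/-- The germ of a function at the generic point. -/
def γP {W : (P).Opens} (hη : gen 1 k ∈ W) : Γ(P, W) →+* (P).functionField := ((P).presheaf.germ W (gen 1 k) hη).hom

/-- Reduced fractions in the coordinate of the second chart. -/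
theorem exists_coprime_frac (x : (P).functionField) :
    ∃ a b : Polynomial k, b ≠ 0 ∧ IsRelPrime a b ∧ x * φp 1 b = φp 1 a := by
  haveI : Nonempty (U₁ : (P).Opens) := ⟨⟨gen 1 k, gen_mem 1 k⟩⟩
  haveI := functionField_isFractionRing_of_isAffineOpen P U₁ (isAffineOpen_stdOpen 1 k (1 : Fin 2))
  obtain ⟨⟨A, B, hB⟩, h⟩ := IsLocalization.surj (nonZeroDivisors Γ(P, U₁)) x
  obtain ⟨a, rfl⟩ := secP_surjective (1 : Fin 2) A
  obtain ⟨b, rfl⟩ := secP_surjective (1 : Fin 2) B
  have hb : b ≠ 0 := fun hb => nonZeroDivisors.ne_zero hB (by rw [hb, map_zero])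
  obtain ⟨b', a', c, hab, hcb, hca⟩ := UniqueFactorizationMonoid.exists_reduced_factors b hb a
  have hx : x * φp 1 b = φp 1 a := h
  refine ⟨a', b', ?_, hab.symm, ?_⟩
  · rintro rfl
    exact hb (by rw [← hcb, mul_zero])
  · rw [← hcb, ← hca, map_mul, map_mul, mul_left_comm] at hx
    refine mul_left_cancel₀ ?_ hx
    intro hc
    exact hb (by rw [← hcb, φp_injective 1 (hc.trans (map_zero _).symm), zero_mul])

/-- Functions killed by the derivation. -/
theorem exists_frac_derivative_zero {W : (P).Opens} (hη : gen 1 k ∈ W) (g : Γ(P, W)) (hg : DP W g = 0) :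
    ∃ a b : Polynomial k, b ≠ 0 ∧ Polynomial.derivative a = 0 ∧ Polynomial.derivative b = 0 ∧
      γP hη g * φp 1 b = φp 1 a := by
  obtain ⟨a, b, hb, hab, hx⟩ := exists_coprime_frac (γP hη g)
  let W' := W ⊓ U₁
  have hη' : gen 1 k ∈ W' := ⟨hη, gen_mem 1 k⟩
  let ρ := ((P).presheaf.map (homOfLE (inf_le_right : W' ≤ U₁)).op).hom
  let gW := (P).presheaf.map (homOfLE (inf_le_left : W' ≤ W)).op g
  have h1 : gW * ρ (secP 1 b) = ρ (secP 1 a) := germ_ext fun h => by
    rw [map_mul, germ_res_gen, germ_res_gen, germ_res_gen]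
    exact hx
  have h2 := congrArg (DP W') h1
  have hρ : ∀ p : Polynomial k, DP W' (ρ (secP 1 p)) = ρ (secP 1 (Polynomial.derivative p)) * ρ (DP U₁ (secP 1 Polynomial.X)) := fun p => by
    show DP W' ((P).presheaf.map (homOfLE inf_le_right).op _) = _
    rw [DP_res, DP_secP]
    exact map_mul ρ _ _
  have hgW : DP W' gW = 0 := by
    show DP W' ((P).presheaf.map (homOfLE inf_le_left).op g) = 0
    rw [DP_res, hg, map_zero]
  rw [DP_mul, hgW, mul_zero, add_zero, hρ, hρ] at h2
  have h3 := congrArg (γP hη') h2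
  simp only [map_mul] at h3
  have hu : γP hη' (ρ (DP U₁ (secP 1 Polynomial.X))) ≠ 0 := fun h => DP_X_ne_zero (k := k) (germ_ext (k := k) (b := 0) fun h' => by
    rw [map_zero]
    exact (germ_res_gen inf_le_right hη' _).symm.trans h)
  have e : ∀ p : Polynomial k, γP hη' (ρ (secP 1 p)) = φp 1 p := fun p =>
    (germ_res_gen inf_le_right hη' _).trans (germ_secP 1 p)
  rw [e, e, show γP hη' gW = γP hη g from germ_res_gen inf_le_left hη' g, ← mul_assoc] at h3
  have h4 := mul_right_cancel₀ hu h3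
  have h5 : a * Polynomial.derivative b = Polynomial.derivative a * b := φp_injective 1 (by
    rw [map_mul, map_mul, ← hx, ← h4]
    ring)
  have hb' : Polynomial.derivative b = 0 := by
    by_contra hne
    exact absurd (Polynomial.degree_le_of_dvd (hab.symm.dvd_of_dvd_mul_left ⟨Polynomial.derivative a, h5.trans (mul_comm _ _)⟩) hne)
      (not_le.2 (Polynomial.degree_derivative_lt hb))
  rw [hb', mul_zero] at h5
  exact ⟨a, b, hb, (mul_eq_zero.1 h5.symm).resolve_right hb, hb', hx⟩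

/-- Roots of functions are functions. -/
theorem exists_root {W : (P).Opens} (g : Γ(P, W)) {q : ℕ} (hq : 0 < q)
    (hr : ∀ hη : gen 1 k ∈ W, ∃ r : (P).functionField, r ^ q = γP hη g) :
    ∃ g' : Γ(P, W), ∀ hη : gen 1 k ∈ W, ∀ r : (P).functionField, r ^ q = γP hη g →
      (∀ r' : (P).functionField, r' ^ q = r ^ q → r' = r) → γP hη g' = r := by
  classical
  by_cases hW : gen 1 k ∈ W
  swap
  · exact ⟨0, fun hη => absurd hη hW⟩
  obtain ⟨r, hrq⟩ := hr hW
  have hloc : ∀ x : W, ∃ (V : (P).Opens) (_ : V ≤ W) (_ : x.1 ∈ V) (v : Γ(P, V)),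
      ∀ hη : gen 1 k ∈ V, γP hη v = r := fun x => by
    have key : ∀ i : Fin 2, x.1 ∈ stdOpen 1 k i → ∃ (V : (P).Opens) (_ : V ≤ W) (_ : x.1 ∈ V) (v : Γ(P, V)),
        ∀ hη : gen 1 k ∈ V, γP hη v = r := fun i hi => by
      let hU := isAffineOpen_stdOpen 1 k i
      obtain ⟨s, hsle, hxs⟩ := hU.exists_basicOpen_le (V := W) ⟨x.1, x.2⟩ hi
      let V := (P).basicOpen s
      haveI : Nonempty V := ⟨⟨x.1, hxs⟩⟩
      haveI : IsIntegrallyClosed Γ(P, stdOpen 1 k i) := inferInstance
      haveI := hU.isLocalization_basicOpen s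
      have hs : s ≠ 0 := by
        rintro rfl
        rw [Scheme.basicOpen_zero] at hxs
        exact hxs
      haveI : IsIntegrallyClosed Γ(P, V) :=
        isIntegrallyClosed_of_isLocalization Γ(P, V) (Submonoid.powers s)
          (powers_le_nonZeroDivisors_of_noZeroDivisors hs)
      haveI := functionField_isFractionRing_of_isAffineOpen P V (hU.basicOpen s)
      have hint : IsIntegral Γ(P, V) r := IsIntegral.of_pow hq (by
        rw [hrq, show γP hW g = algebraMap Γ(P, V) (P).functionField ((P).presheaf.map (homOfLE hsle).op g) from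
          (germ_res_gen hsle (gen_mem 1 k) g).symm]
        exact isIntegral_algebraMap)
      obtain ⟨v, hv⟩ := (IsIntegrallyClosed.isIntegral_iff (R := Γ(P, V))).1 hint
      exact ⟨V, hsle, hxs, v, fun hη => hv⟩
    rcases mem_U₀_or_U₁ x.1 with h | h
    · exact key 0 h
    · exact key 1 h
  choose V hVW hxV v hv using hloc
  obtain ⟨G, hG, -⟩ := TopCat.Sheaf.existsUnique_gluing' (P).sheaf V W (fun x => homOfLE (hVW x))
    (fun x hx => Opens.mem_iSup.2 ⟨⟨x, hx⟩, hxV ⟨x, hx⟩⟩) v (fun x y => germ_ext fun hη => by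
      refine (germ_res_gen inf_le_left hη _).trans (Eq.trans ?_ (germ_res_gen inf_le_right hη _).symm)
      exact (hv x hη.1).trans (hv y hη.2).symm)
  refine ⟨G, fun hη r' hr' huniq => ?_⟩
  rw [← huniq r (hrq.trans hr'.symm), ← hv ⟨gen 1 k, hη⟩ (hxV _), ← hG ⟨gen 1 k, hη⟩]
  exact (germ_res_gen (hVW ⟨gen 1 k, hη⟩) (hxV ⟨gen 1 k, hη⟩) G).symm

end Groth.Agent.JetVanLib.P1
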