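import Groth.Agent.JetVanLib.Expand
import Groth.Agent.JetVanLib.Eval
import Groth.Agent.DegDevLib.Frame
import Mathlib.AlgebraicGeometry.Morphisms.Smooth
import Mathlib.RingTheory.Filtration

/-!
# Sections killed by all jets along a curve
-/

set_option autoImplicit false
set_option linter.style.haveILetI false
set_option linter.unusedSectionVars false
set_option backward.isDefEq.respectTransparency false
set_option maxHeartbeats 1000000

universe u

open CategoryTheory CategoryTheory.Limits AlgebraicGeometry TopologicalSpace Opposite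
open Groth.Agent.OmegaDimLib
open Groth.Agent.DegDevLib (IsFrame)

noncomputable section

namespace Groth.Agent.JetVanLib

variable {k : Type u} [Field k] [IsAlgClosed k] {P X : Scheme.{u}} (sX : X ⟶ Spec (CommRingCat.of k))
  (sP : P ⟶ Spec (CommRingCat.of k)) [LocallyOfFiniteType sP] (f : P ⟶ X)

/-- First-order data along `f`: derivations with values in the functions on the source. -/
structure JetData (N : ℕ) where
  /-- The derivations. -/
  D : ∀ V : X.Opens, Γ(X, V) →+ (Fin N → Γ(P, f ⁻¹ᵁ V))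
  leib : ∀ (V : X.Opens) (a b : Γ(X, V)) (l : Fin N), D V (a * b) l = f.app V a * D V b l + f.app V b * D V a l
  const : ∀ (V : X.Opens) (c : k), D V (secHom k sX V c) = 0
  res : ∀ {V V' : X.Opens} (h : V' ≤ V) (a : Γ(X, V)) (l : Fin N),
    D V' (X.presheaf.map (homOfLE h).op a) l = P.presheaf.map (homOfLE (show f ⁻¹ᵁ V' ≤ f ⁻¹ᵁ V from fun _ hx => h hx)).op (D V a l)

/-- Functionals of a module along `f`. -/
abbrev Fun (F : X.Modules) := F ⟶ (Scheme.Modules.pushforward f).obj (Coh.structureModule P)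

variable {F : X.Modules}

/-- The value of a functional. -/
def tv (θ : Fun f F) (V : X.Opens) (s : Γ(F, V)) : Γ(P, f ⁻¹ᵁ V) := θ.app V s

theorem tv_add (θ : Fun f F) (V : X.Opens) (s t : Γ(F, V)) : tv f θ V (s + t) = tv f θ V s + tv f θ V t :=
  map_add (θ.app V).hom s t

theorem tv_smul (θ : Fun f F) (V : X.Opens) (r : Γ(X, V)) (s : Γ(F, V)) :
    tv f θ V (r • s) = f.app V r * tv f θ V s :=
  (θ.app_smul r s).trans rfl

theorem tv_res (θ : Fun f F) {V V' : X.Opens} (h : V' ≤ V) (s : Γ(F, V)) :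
    tv f θ V' (F.presheaf.map (homOfLE h).op s) =
      P.presheaf.map (homOfLE (show f ⁻¹ᵁ V' ≤ f ⁻¹ᵁ V from fun _ hx => h hx)).op (tv f θ V s) :=
  ConcreteCategory.congr_hom (θ.mapPresheaf.naturality (homOfLE h).op) s

theorem tv_sum (θ : Fun f F) (V : X.Opens) {ι : Type*} (t : Finset ι) (s : ι → Γ(F, V)) :
    tv f θ V (∑ i ∈ t, s i) = ∑ i ∈ t, tv f θ V (s i) :=
  map_sum (θ.app V).hom s t

variable {sX sP f} {N : ℕ} (J : JetData (k := k) sX f N)

/-- Evaluation at the image of a closed point. -/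
def chi (V : X.Opens) {p : P} (hp : IsClosed ({p} : Set P)) (hV : f p ∈ V) : Γ(X, V) →+* k :=
  (evk sP hp (show p ∈ f ⁻¹ᵁ V from hV)).comp (f.app V).hom

/-- The first-order values. -/
def ell (V : X.Opens) {p : P} (hp : IsClosed ({p} : Set P)) (hV : f p ∈ V) (r : Γ(X, V)) : Fin N → k :=
  fun l => evk sP hp (show p ∈ f ⁻¹ᵁ V from hV) (J.D V r l)

theorem chi_res {V V' : X.Opens} (h : V' ≤ V) {p : P} (hp : IsClosed ({p} : Set P)) (hV' : f p ∈ V') (r : Γ(X, V)) :
    chi (sP := sP) V' hp hV' (X.presheaf.map (homOfLE h).op r) = chi (sP := sP) V hp (h hV') r := by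
  simp only [chi, RingHom.comp_apply]
  rw [← evk_res sP hp (show p ∈ f ⁻¹ᵁ V' from hV') (show f ⁻¹ᵁ V' ≤ f ⁻¹ᵁ V from fun _ hx => h hx)]
  exact congrArg _ (ConcreteCategory.congr_hom (f.naturality (homOfLE h).op) r)

theorem ell_res {V V' : X.Opens} (h : V' ≤ V) {p : P} (hp : IsClosed ({p} : Set P)) (hV' : f p ∈ V') (r : Γ(X, V)) :
    ell (sP := sP) J V' hp hV' (X.presheaf.map (homOfLE h).op r) = ell (sP := sP) J V hp (h hV') r := by
  funext l
  simp only [ell, J.res h]
  exact evk_res sP hp (show p ∈ f ⁻¹ᵁ V' from hV') (fun _ hx => h hx) _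

theorem chi_secHom (hf : f ≫ sX = sP) (V : X.Opens) {p : P} (hp : IsClosed ({p} : Set P)) (hV : f p ∈ V) (c : k) :
    chi (sP := sP) V hp hV (secHom k sX V c) = c := by
  have e : f.app V (secHom k sX V c) = secHom k sP (f ⁻¹ᵁ V) c := by
    rw [← hf, ← secHom_comp k f sX (le_refl (f ⁻¹ᵁ V)), RingHom.comp_apply, ← Scheme.Hom.app_eq_appLE]
  rw [chi, RingHom.comp_apply, e, evk_secHom]

/-- The first order of the target is seen along the curve away from `q`. -/
def Inj (sP : P ⟶ Spec (CommRingCat.of k)) [LocallyOfFiniteType sP] (V : X.Opens) (q : P) : Prop :=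
  ∀ (p : P) (hp : IsClosed ({p} : Set P)) (hV : f p ∈ V), p ≠ q → ∀ a : Γ(X, V),
    chi (sP := sP) V hp hV a = 0 → ell (sP := sP) J V hp hV a = 0 → a ∈ RingHom.ker (chi (sP := sP) V hp hV) ^ 2

/-- The functionals are jointly injective on the fibres away from `q`. -/
def ThInj (sP : P ⟶ Spec (CommRingCat.of k)) [LocallyOfFiniteType sP] {ι : Type*} (θ : ι → Fun f F) (V : X.Opens)
    {n : ℕ} (e : Fin n → Γ(F, V)) (q : P) : Prop :=
  ∀ (p : P) (hp : IsClosed ({p} : Set P)) (hV : f p ∈ V), p ≠ q → ∀ lam : Fin n → k,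
    (∀ L, ∑ a, lam a * evk sP hp (show p ∈ f ⁻¹ᵁ V from hV) (tv f (θ L) V (e a)) = 0) → lam = 0

/-- The leading coefficient of a section in given coordinates. -/
def lead {j : ℕ} {ι : Type*} (θ : ι → Fun f F) (V : X.Opens) {n : ℕ} (e : Fin n → Γ(F, V)) (c : Fin n → Γ(X, V))
    {p : P} (hp : IsClosed ({p} : Set P)) (hV : f p ∈ V) (E : Γ(X, V) →+* QT k N j) (L : ι) (α : Fin N →₀ ℕ) : k :=
  ∑ a, evk sP hp (show p ∈ f ⁻¹ᵁ V from hV) (tv f (θ L) V (e a)) * cf α (E (c a))

/-- The leading coefficient does not depend on coordinates. -/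
theorem lead_change {j : ℕ} {ι : Type*} (θ : ι → Fun f F) {V V' : X.Opens} (h : V' ≤ V) {n n' : ℕ}
    (e : Fin n → Γ(F, V)) (c : Fin n → Γ(X, V)) (e' : Fin n' → Γ(F, V')) (he' : IsFrame V' e')
    (c' : Fin n' → Γ(X, V'))
    (hs : F.presheaf.map (homOfLE h).op (∑ a, c a • e a) = ∑ b, c' b • e' b)
    {p : P} (hp : IsClosed ({p} : Set P)) (hV' : f p ∈ V')
    (hc : ∀ a, c a ∈ RingHom.ker (chi (sP := sP) V hp (h hV')) ^ j)
    {E : Γ(X, V) →+* QT k N j} (hE : Lin (chi (sP := sP) V hp (h hV')) (ell (sP := sP) J V hp (h hV')) E)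
    {E' : Γ(X, V') →+* QT k N j} (hE' : Lin (chi (sP := sP) V' hp hV') (ell (sP := sP) J V' hp hV') E')
    (L : ι) (α : Fin N →₀ ℕ) (hα : Finsupp.degree α ≤ j) :
    lead (sP := sP) θ V e c hp (h hV') E L α = lead (sP := sP) θ V' e' c' hp hV' E' L α := by
  let res := (X.presheaf.map (homOfLE h).op).hom
  let resF := F.presheaf.map (homOfLE h).op
  choose A hA using fun a => he'.bijective.2 (resF (e a))
  simp only [Fintype.linearCombination_apply] at hA
  have hc' : c' = fun b => ∑ a, res (c a) * A a b := by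
    refine he'.bijective.1 ?_
    simp only [Fintype.linearCombination_apply, Finset.sum_smul]
    rw [← hs, map_sum, Finset.sum_comm]
    refine Finset.sum_congr rfl fun a _ => ?_
    rw [Scheme.Modules.map_smul, ← hA a, Finset.smul_sum]
    exact Finset.sum_congr rfl fun b _ => smul_smul _ _ _
  have hcr : ∀ a, E' (res (c a)) = E (c a) := fun a => by
    have hl : Lin (chi (sP := sP) V hp (h hV')) (ell (sP := sP) J V hp (h hV')) (E'.comp res) := by
      have := hE'.comp res
      simp only [res, chi_res h hp hV', ell_res J h hp hV'] at this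
      exact this
    exact (hl.agree hE (hc a)).1
  have hmul : ∀ a b, E' (A a b) * E (c a) = Ideal.Quotient.mk _ (MvPolynomial.C (chi (sP := sP) V' hp hV' (A a b))) * E (c a) := fun a b => by
    have h1 := (hE.agree hE (hc a)).2
    have h2 := hE'.sub_C_mem (A a b)
    have h4 : _ ∈ aug k N j ^ (j + 1) := (pow_succ' (aug k N j) j).symm ▸ Ideal.mul_mem_mul h2 h1
    rw [aug_pow_succ, Ideal.mem_bot, sub_mul, sub_eq_zero] at h4
    exact h4
  have hev : ∀ a, evk sP hp (show p ∈ f ⁻¹ᵁ V from h hV') (tv f (θ L) V (e a)) =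
      ∑ b, chi (sP := sP) V' hp hV' (A a b) * evk sP hp (show p ∈ f ⁻¹ᵁ V' from hV') (tv f (θ L) V' (e' b)) := fun a => by
    rw [← evk_res sP hp (show p ∈ f ⁻¹ᵁ V' from hV') (show f ⁻¹ᵁ V' ≤ f ⁻¹ᵁ V from fun _ hx => h hx), ← tv_res f (θ L) h]
    show evk sP hp _ (tv f (θ L) V' (resF (e a))) = _
    rw [← hA a, tv_sum, map_sum]
    refine Finset.sum_congr rfl fun b _ => ?_
    rw [tv_smul, map_mul]
    rfl
  simp only [lead, hev, hc', map_sum, map_mul, cf_sum hα, Finset.mul_sum, Finset.sum_mul]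
  rw [Finset.sum_comm]
  refine Finset.sum_congr rfl fun b _ => Finset.sum_congr rfl fun a _ => ?_
  rw [hcr, mul_comm (E (c a)), hmul, cf_C_mul hα]
  ring

variable (hf : f ≫ sX = sP) [Smooth sX]

include hf in
theorem formallySmooth_chart {V : X.Opens} (hV : IsAffineOpen V) :
    letI := (secHom k sX V).toAlgebra
    Algebra.FormallySmooth k Γ(X, V) := by
  have h := Smooth.smooth_appLE (f := sX) (isAffineOpen_top _) hV le_top
  have h2 : (secHom k sX V).Smooth := (RingHom.Smooth.of_bijective (f := (Scheme.ΓSpecIso (CommRingCat.of k)).inv.hom)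
    (Scheme.ΓSpecIso (CommRingCat.of k)).symm.commRingCatIsoToRingEquiv.bijective).comp h
  letI := (secHom k sX V).toAlgebra
  haveI : Algebra.Smooth k Γ(X, V) := h2
  exact Algebra.Smooth.formallySmooth

include hf in
/-- Expansions over an open of the source. -/
theorem exists_lin_open {V : X.Opens} (hV : IsAffineOpen V) {W : P.Opens} (hW : W ≤ f ⁻¹ᵁ V) (j : ℕ) :
    ∃ E : Γ(X, V) →+* QT Γ(P, W) N j, Lin (fun r => P.presheaf.map (homOfLE hW).op (f.app V r))
      (fun r l => P.presheaf.map (homOfLE hW).op (J.D V r l)) E := by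
  letI := (secHom k sX V).toAlgebra
  haveI := formallySmooth_chart (sX := sX) hf hV
  letI : Algebra k Γ(P, W) := (secHom k sP W).toAlgebra
  let rW := (P.presheaf.map (homOfLE hW).op).hom
  let φ : Γ(X, V) →ₐ[k] Γ(P, W) :=
    { toRingHom := rW.comp (f.app V).hom
      commutes' := fun c => by
        show P.presheaf.map (homOfLE hW).op (f.app V (secHom k sX V c)) = secHom k sP W c
        rw [← hf, ← secHom_comp k f sX hW, RingHom.comp_apply]
        rfl }
  let D : Γ(X, V) →ₗ[k] (Fin N → Γ(P, W)) :=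
    { toFun := fun r l => rW (J.D V r l)
      map_add' := fun a b => by funext l; simp only [map_add, Pi.add_apply]
      map_smul' := fun c a => by
        funext l
        show rW (J.D V (secHom k sX V c * a) l) = secHom k sP W c * rW (J.D V a l)
        rw [J.leib, J.const, Pi.zero_apply, mul_zero, add_zero, map_mul]
        congr 1
        exact φ.commutes c }
  exact exists_lin φ D (fun a b l => by
    show rW (J.D V (a * b) l) = rW (f.app V a) * rW (J.D V b l) + rW (f.app V b) * rW (J.D V a l)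
    rw [J.leib, map_add, map_mul, map_mul]) j

theorem lin_evk {V : X.Opens} {j : ℕ} {E : Γ(X, V) →+* QT Γ(P, f ⁻¹ᵁ V) N j}
    (hE : Lin (fun r => P.presheaf.map (homOfLE (le_refl (f ⁻¹ᵁ V))).op (f.app V r))
      (fun r l => P.presheaf.map (homOfLE (le_refl (f ⁻¹ᵁ V))).op (J.D V r l)) E)
    {p : P} (hp : IsClosed ({p} : Set P)) (hpV : f p ∈ V) :
    Lin (chi (sP := sP) V hp hpV) (ell (sP := sP) J V hp hpV)
      ((qmap (evk sP hp (show p ∈ f ⁻¹ᵁ V from hpV))).comp E) := fun r => by
  have h := hE.map (evk sP hp (show p ∈ f ⁻¹ᵁ V from hpV)) r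
  simp only [evk_res, lin1] at h
  exact h

include hf in
theorem exists_lin_point {V : X.Opens} (hV : IsAffineOpen V) {p : P} (hp : IsClosed ({p} : Set P)) (hpV : f p ∈ V)
    (j : ℕ) : ∃ E : Γ(X, V) →+* QT k N j, Lin (chi (sP := sP) V hp hpV) (ell (sP := sP) J V hp hpV) E := by
  obtain ⟨E, hE⟩ := exists_lin_open J hf hV (le_refl (f ⁻¹ᵁ V)) j
  exact ⟨_, lin_evk J hE hp hpV⟩

variable [IsIntegral P] [IsProper sP] [IsIntegral X] [IsLocallyNoetherian X]

include hf in
/-- A section killed by all jets along `f` vanishes. -/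
theorem section_eq_zero {ι : Type*} (θ : ι → Fun f F) {q : P} (hq : IsClosed ({q} : Set P))
    (hqg : q ≠ genericPoint P)
    (hθq : ∀ (L : ι) (V : X.Opens) (hV : f q ∈ V) (s : Γ(F, V)),
      evk sP hq (show q ∈ f ⁻¹ᵁ V from hV) (tv f (θ L) V s) = 0)
    (hchart : ∀ x : X, ∃ (V : X.Opens) (n : ℕ) (e : Fin n → Γ(F, V)),
      IsAffineOpen V ∧ x ∈ V ∧ IsFrame V e ∧ Inj J sP V q ∧ ThInj sP θ V e q)
    (σ : Γ(F, ⊤)) : σ = 0 := by
  classical
  choose V n e hV hxV hfr hinj hth using hchart
  let resσ : ∀ V : X.Opens, Γ(F, V) := fun V => F.presheaf.map (homOfLE (le_top : V ≤ ⊤)).op σ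
  choose c hc using fun x => (hfr x).bijective.2 (resσ (V x))
  simp only [Fintype.linearCombination_apply] at hc
  have main : ∀ (j : ℕ) (x : X) (p : P) (hp : IsClosed ({p} : Set P)) (hpV : f p ∈ V x), p ≠ q →
      ∀ a, c x a ∈ RingHom.ker (chi (sP := sP) (V x) hp hpV) ^ j := by
    intro j
    induction j with
    | zero => intro x p hp hpV _ a; simp
    | succ j ih =>
      -- the global coefficient functions
      have hglob : ∀ (L : ι) (α : Fin N →₀ ℕ), Finsupp.degree α = j →
          ∀ (x : X) (p : P) (hp : IsClosed ({p} : Set P)) (hpV : f p ∈ V x) (_ : p ≠ q)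
            (E : Γ(X, V x) →+* QT k N j), Lin (chi (sP := sP) (V x) hp hpV) (ell (sP := sP) J (V x) hp hpV) E →
              lead (sP := sP) θ (V x) (e x) (c x) hp hpV E L α = 0 := by
        intro L α hα
        choose E hE using fun x => exists_lin_open J hf (hV x) (le_refl (f ⁻¹ᵁ V x)) j
        let g : ∀ x, Γ(P, f ⁻¹ᵁ V x) := fun x => ∑ a, tv f (θ L) (V x) (e x a) * cf α (E x (c x a))
        have hg : ∀ (x : X) (p : P) (hp : IsClosed ({p} : Set P)) (hpV : f p ∈ V x) (_ : p ≠ q)
            (E' : Γ(X, V x) →+* QT k N j), Lin (chi (sP := sP) (V x) hp hpV) (ell (sP := sP) J (V x) hp hpV) E' →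
              evk sP hp (show p ∈ f ⁻¹ᵁ V x from hpV) (g x) = lead (sP := sP) θ (V x) (e x) (c x) hp hpV E' L α := by
          intro x p hp hpV hpq E' hE'
          have h1 := lin_evk (sP := sP) J (hE x) hp hpV
          simp only [g, lead, map_sum, map_mul]
          refine Finset.sum_congr rfl fun a _ => ?_
          rw [← (Lin.agree h1 hE' (ih x p hp hpV hpq a)).1, RingHom.comp_apply,
            cf_qmap (evk sP hp (show p ∈ f ⁻¹ᵁ V x from hpV)) hα.le]
        obtain ⟨G, hG, -⟩ := TopCat.Sheaf.existsUnique_gluing' P.sheaf (fun x => f ⁻¹ᵁ V x) ⊤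
          (fun x => homOfLE le_top) (fun y _ => Opens.mem_iSup.2 ⟨f y, hxV (f y)⟩) g (fun x y => by
            refine sub_eq_zero.1 (eq_zero_of_evk sP hq hqg _ fun p hp hpW hpq => ?_)
            show evk sP hp hpW (P.presheaf.map (homOfLE inf_le_left).op (g x) -
              P.presheaf.map (homOfLE inf_le_right).op (g y)) = 0
            rw [map_sub, evk_res, evk_res, sub_eq_zero]
            have hpx : f p ∈ V x := hpW.1
            have hpy : f p ∈ V y := hpW.2
            obtain ⟨_, ⟨Z, hZ, rfl⟩, hpZ, hZV⟩ :=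
              X.isBasis_affineOpens.exists_subset_of_mem_open (show f p ∈ V x ⊓ V y from ⟨hpx, hpy⟩) (V x ⊓ V y).2
            have hZx : Z ≤ V x := le_trans (show Z ≤ V x ⊓ V y from hZV) inf_le_left
            have hZy : Z ≤ V y := le_trans (show Z ≤ V x ⊓ V y from hZV) inf_le_right
            let e' : Fin (n x) → Γ(F, Z) := fun a => F.presheaf.map (homOfLE hZx).op (e x a)
            obtain ⟨EZ, hEZ⟩ := exists_lin_point J hf hZ hp hpZ j
            obtain ⟨Ex, hEx⟩ := exists_lin_point J hf (hV x) hp hpx j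
            obtain ⟨Ey, hEy⟩ := exists_lin_point J hf (hV y) hp hpy j
            let c' : Fin (n x) → Γ(X, Z) := fun a => X.presheaf.map (homOfLE hZx).op (c x a)
            have hsx : F.presheaf.map (homOfLE hZx).op (∑ a, c x a • e x a) = ∑ b, c' b • e' b := by
              rw [map_sum]
              exact Finset.sum_congr rfl fun a _ => Scheme.Modules.map_smul _ _ _ _
            have hsy : F.presheaf.map (homOfLE hZy).op (∑ a, c y a • e y a) = ∑ b, c' b • e' b := by
              rw [← hsx, hc x, hc y]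
              exact (ParaFLib.res_res _ _ σ).trans (ParaFLib.res_res _ _ σ).symm
            rw [hg x p hp hpx hpq Ex hEx, hg y p hp hpy hpq Ey hEy,
              lead_change J θ hZx (e x) (c x) e' ((hfr x).res hZx) c' hsx hp hpZ (ih x p hp hpx hpq) hEx hEZ L α hα.le,
              lead_change J θ hZy (e y) (c y) e' ((hfr x).res hZx) c' hsy hp hpZ (ih y p hp hpy hpq) hEy hEZ L α hα.le])
        have hG0 : G = 0 := by
          refine eq_zero_of_evk_top sP hq G ?_
          have h1 : evk sP hq (show q ∈ f ⁻¹ᵁ V (f q) from hxV (f q)) (g (f q)) = 0 := by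
            simp only [g, map_sum, map_mul]
            exact Finset.sum_eq_zero fun a _ => by rw [hθq L (V (f q)) (hxV (f q)) _, zero_mul]
          rw [← hG (f q)] at h1
          exact (evk_res sP hq (show q ∈ f ⁻¹ᵁ V (f q) from hxV (f q)) le_top G).symm.trans h1
        intro x p hp hpV hpq E' hE'
        rw [← hg x p hp hpV hpq E' hE', ← hG x, hG0]
        simp
      intro x p hp hpV hpq
      obtain ⟨E, hE⟩ := exists_lin_point J hf (hV x) hp hpV j
      have hcf : ∀ α : Fin N →₀ ℕ, Finsupp.degree α = j → (fun a => cf α (E (c x a))) = 0 := fun α hα =>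
        hth x p hp hpV hpq _ fun L => by
          rw [← hglob L α hα x p hp hpV hpq E hE]
          exact Finset.sum_congr rfl fun a _ => mul_comm _ _
      intro a
      have h0 : E (c x a) = 0 := eq_zero_of_cf (hE.agree hE (ih x p hp hpV hpq a)).2 fun α hα => congrFun (hcf α hα) a
      letI := (secHom k sX (V x)).toAlgebra
      let ℓ' : Γ(X, V x) →ₗ[k] (Fin N → k) :=
        { toFun := ell (sP := sP) J (V x) hp hpV
          map_add' := fun r r' => by funext l; simp [ell]
          map_smul' := fun t r => by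
            funext l
            show evk sP hp _ (J.D (V x) (secHom k sX (V x) t * r) l) = t * _
            rw [J.leib, J.const, Pi.zero_apply, mul_zero, add_zero, map_mul]
            exact congrArg (· * _) (chi_secHom hf (V x) hp hpV t) }
      exact hE.mem_succ (fun t => chi_secHom hf (V x) hp hpV t) ℓ' (fun _ => rfl) (hinj x p hp hpV hpq)
        (ih x p hp hpV hpq a) h0
  -- conclude by Krull intersection
  haveI : JacobsonSpace P := LocallyOfFiniteType.jacobsonSpace sP
  obtain ⟨p₀, hp₀q, hp₀⟩ := nonempty_inter_closedPoints (Z := ({q}ᶜ : Set P))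
    ⟨genericPoint P, hqg.symm⟩ hq.isOpen_compl.isLocallyClosed
  let x₀ := f p₀
  haveI : Nonempty (V x₀) := ⟨⟨x₀, hxV x₀⟩⟩
  have hc0 : ∀ a, c x₀ a = 0 := fun a => by
    haveI : IsNoetherianRing Γ(X, V x₀) := IsLocallyNoetherian.component_noetherian ⟨V x₀, hV x₀⟩
    have hne : RingHom.ker (chi (sP := sP) (V x₀) hp₀ (hxV x₀)) ≠ ⊤ := RingHom.ker_ne_top _
    have h1 : c x₀ a ∈ ⨅ j, RingHom.ker (chi (sP := sP) (V x₀) hp₀ (hxV x₀)) ^ j :=
      Ideal.mem_iInf.2 fun j => main j x₀ p₀ hp₀ (hxV x₀) hp₀q a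
    rwa [Ideal.iInf_pow_eq_bot_of_isDomain _ hne, Ideal.mem_bot] at h1
  have hη0 : F.presheaf.germ ⊤ (genericPoint X) trivial σ = 0 := by
    have hη : genericPoint X ∈ V x₀ := ((genericPoint_spec X).specializes trivial).mem_open (V x₀).2 (hxV x₀)
    rw [← TopCat.Presheaf.germ_res_apply F.presheaf (homOfLE (le_top : V x₀ ≤ ⊤)) _ hη σ]
    show F.presheaf.germ (V x₀) _ hη (resσ (V x₀)) = 0
    rw [← hc x₀]
    simp [hc0]
  refine TopCat.Presheaf.section_ext ⟨F.presheaf, F.isSheaf⟩ ⊤ σ 0 fun x _ => ?_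
  rw [map_zero]
  have hη : genericPoint X ∈ V x := ((genericPoint_spec X).specializes trivial).mem_open (V x).2 (hxV x)
  haveI : Nonempty (V x) := ⟨⟨x, hxV x⟩⟩
  have hc0' : ∀ a, c x a = 0 := fun a => by
    refine AlgebraicGeometry.germ_injective_of_isIntegral X (genericPoint X) hη (Eq.trans ?_ (map_zero _).symm)
    refine congrFun ((hfr x (genericPoint X) hη).1 (a₁ := fun b => X.presheaf.germ (V x) _ hη (c x b)) (a₂ := 0) (Eq.trans ?_ (map_zero _).symm)) a
    rw [← TopCat.Presheaf.germ_res_apply F.presheaf (homOfLE (le_top : V x ≤ ⊤)) _ hη σ] at hη0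
    change F.presheaf.germ (V x) _ hη (resσ (V x)) = 0 at hη0
    rw [← hc x, map_sum] at hη0
    refine Eq.trans ?_ hη0
    simp only [Fintype.linearCombination_apply]
    exact Finset.sum_congr rfl fun b _ => (PresheafOfModules.germ_smul (R := X.presheaf) F.val _ _ hη _ _).symm
  rw [← TopCat.Presheaf.germ_res_apply F.presheaf (homOfLE (le_top : V x ≤ ⊤)) x (hxV x) σ]
  show F.presheaf.germ (V x) x _ (resσ (V x)) = 0
  rw [← hc x]
  simp [hc0']

end Groth.Agent.JetVanLib
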