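import Groth.Agent.SplitP1Lib.Main
import Groth.Agent.ProjBundleLib.Exist
import Groth.Agent.CurveLib.SmulPow
import Groth.Agent.JetVanLib.Jets

/-!
# Functionals on adapted bundles of the projective line
-/

set_option autoImplicit false
set_option linter.style.haveILetI false
set_option linter.unusedSectionVars false
set_option backward.isDefEq.respectTransparency false
set_option maxHeartbeats 1000000

universe u

open CategoryTheory CategoryTheory.Limits AlgebraicGeometry TopologicalSpace Opposite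
open Groth.Agent.AmpleEmb Groth.Agent.PicProjLib Groth.Agent.SplitP1Lib Groth.Agent.PullbackMod
open Groth.Agent.DegDevLib (IsFrame)

noncomputable section

namespace Groth.Agent.JetVanLib.P1

variable {k : Type u} [Field k]

local notation "P" => CohB1.ProjSpace 1 k
local notation "U₀" => stdOpen 1 k (0 : Fin 2)
local notation "U₁" => stdOpen 1 k (1 : Fin 2)

theorem mem_U₀_or_U₁ (x : P) : x ∈ U₀ ∨ x ∈ U₁ := by
  obtain ⟨i, hi⟩ := Opens.mem_iSup.1 ((iSup_stdOpen 1 k).ge (Opens.mem_top x))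
  match i, hi with
  | (0 : Fin 2), h => exact Or.inl h
  | (1 : Fin 2), h => exact Or.inr h

/-- The value at the origin of the first chart. -/
def ε₀ : Γ(P, U₀) →+* k := MvPolynomial.constantCoeff.comp (chartEquiv 1 k (0 : Fin 2)).symm.toRingHom

theorem ε₀_surjective : Function.Surjective (ε₀ (k := k)) := fun c =>
  ⟨chartEquiv 1 k 0 (MvPolynomial.C c), by simp [ε₀]⟩

theorem ker_ε₀ : RingHom.ker (ε₀ (k := k)) = Ideal.span {coordRatio 1 k (0 : Fin 2) 1} := by
  have h1 : coordRatio 1 k (0 : Fin 2) 1 = chartEquiv 1 k 0 (MvPolynomial.X 0) :=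
    (chartEquiv_X 1 k 0 0).symm
  refine le_antisymm (fun a ha => ?_) ((Ideal.span_le).2 fun a ha => ?_)
  · obtain ⟨p, rfl⟩ := (chartEquiv 1 k (0 : Fin 2)).surjective a
    obtain ⟨p', rfl⟩ := (oneVar (k := k)).surjective p
    have hp : p'.coeff 0 = 0 := by
      have h : MvPolynomial.constantCoeff (oneVar p') = 0 := by simpa [ε₀] using ha
      have e : (MvPolynomial.constantCoeff.comp (oneVar (k := k)).toRingHom) = Polynomial.constantCoeff :=
        Polynomial.ringHom_ext (fun c => by simp [oneVar]) (by simp [oneVar])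
      exact (RingHom.congr_fun e p').symm.trans h
    obtain ⟨q', hq⟩ := Polynomial.X_dvd_iff.2 hp
    rw [hq, map_mul, map_mul, h1]
    refine Ideal.mul_mem_right _ _ ?_
    rw [show oneVar (k := k) Polynomial.X = MvPolynomial.X 0 by simp [oneVar]]
    exact Ideal.subset_span rfl
  · rw [Set.mem_singleton_iff] at ha
    rw [ha, h1]
    simp [ε₀]

/-- The point missed by the second chart. -/
def q₀ : P := (isAffineOpen_stdOpen 1 k (0 : Fin 2)).fromSpec
  ⟨RingHom.ker (ε₀ (k := k)), RingHom.ker_isPrime _⟩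

theorem q₀_mem : (q₀ (k := k)) ∈ U₀ := by
  have h := (isAffineOpen_stdOpen 1 k (0 : Fin 2)).range_fromSpec
  show q₀ ∈ ((U₀ : (P).Opens) : Set P)
  rw [← h]
  exact Set.mem_range_self _

theorem mem_U₁_iff (x : P) : x ∈ U₁ ↔ x ≠ q₀ := by
  let hU := isAffineOpen_stdOpen 1 k (0 : Fin 2)
  have key : ∀ y : Spec Γ(P, U₀), hU.fromSpec y ∈ U₁ ↔ coordRatio 1 k (0 : Fin 2) 1 ∉ y.asIdeal := fun y => by
    have h := congrArg (fun O : (Spec Γ(P, U₀)).Opens => y ∈ O) (hU.fromSpec_preimage_basicOpen (coordRatio 1 k (0 : Fin 2) 1))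
    have h0 : hU.fromSpec y ∈ ((U₀ : (P).Opens) : Set P) := by
      rw [← hU.range_fromSpec]
      exact Set.mem_range_self y
    rw [basicOpen_coordRatio] at h
    exact ⟨fun hy => (iff_of_eq h).1 ⟨h0, hy⟩, fun hy => ((iff_of_eq h).2 hy).2⟩
  constructor
  · intro hx hq
    rw [hq, q₀, key] at hx
    refine hx ?_
    show _ ∈ RingHom.ker (ε₀ (k := k))
    rw [ker_ε₀]
    exact Ideal.subset_span rfl
  · intro hne
    rcases mem_U₀_or_U₁ x with h0 | h1
    · obtain ⟨y, rfl⟩ : x ∈ Set.range hU.fromSpec := hU.range_fromSpec.symm ▸ h0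
      rw [key]
      intro hy
      refine hne (congrArg hU.fromSpec (PrimeSpectrum.ext ?_))
      have hle : RingHom.ker (ε₀ (k := k)) ≤ y.asIdeal := by
        rw [ker_ε₀, Ideal.span_le]
        simpa using hy
      exact ((RingHom.ker_isMaximal_of_surjective (ε₀ (k := k)) ε₀_surjective).eq_of_le y.2.ne_top hle).symm
    · exact h1

theorem isClosed_q₀ : IsClosed ({q₀} : Set P) := by
  have e : ({q₀} : Set P) = (U₁ : Set P)ᶜ := by
    ext x
    simp only [Set.mem_singleton_iff, Set.mem_compl_iff, SetLike.mem_coe, mem_U₁_iff, ne_eq, not_not]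
  rw [e]
  exact U₁.2.isClosed_compl

theorem q₀_ne_gen : (q₀ (k := k)) ≠ genericPoint P := fun h =>
  (mem_U₁_iff (q₀ (k := k))).1 (show q₀ ∈ U₁ by rw [h]; exact gen_mem 1 k) rfl


theorem germ_ext {W : (P).Opens} {a b : Γ(P, W)}
    (h : ∀ hη : gen 1 k ∈ W, (P).presheaf.germ W (gen 1 k) hη a = (P).presheaf.germ W (gen 1 k) hη b) : a = b := by
  by_cases hW : Nonempty W
  · exact germ_injective_of_isIntegral P (gen 1 k) (gen_mem 1 k) (h (gen_mem 1 k))
  · refine TopCat.Presheaf.section_ext (P).sheaf W a b fun x hx => absurd ⟨⟨x, hx⟩⟩ hW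

theorem germ_res_gen {W W' : (P).Opens} (h : W' ≤ W) (hη : gen 1 k ∈ W') (a : Γ(P, W)) :
    (P).presheaf.germ W' (gen 1 k) hη ((P).presheaf.map (homOfLE h).op a) = (P).presheaf.germ W (gen 1 k) (h hη) a :=
  TopCat.Presheaf.germ_res_apply _ _ _ _ _

/-- A functional on an adapted bundle with nonpositive exponent at `a`. -/
theorem exists_coordFun {E : (P).Modules} {r : ℕ} {d : Fin r → ℤ} (f₀ : Fin r → Γ(E, U₀)) (f₁ : Fin r → Γ(E, U₁)) (h₀ : IsFrame U₀ f₀) (h₁ : IsFrame U₁ f₁)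
    (hd : ∀ a, γg (gen_mem 1 k) (f₁ a) = t 1 k 0 1 ^ d a • γg (gen_mem 1 k) (f₀ a)) {a : Fin r} (ha : d a ≤ 0) :
    ∃ ψ : E ⟶ Coh.structureModule P,
      (∀ (W : (P).Opens) (h : W ≤ U₁) (b : Fin r),
        (show Γ(P, W) from ψ.app W (E.presheaf.map (homOfLE h).op (f₁ b))) = if b = a then 1 else 0) ∧
      ∀ (W : (P).Opens) (h : W ≤ U₀) (b : Fin r),
        (show Γ(P, W) from ψ.app W (E.presheaf.map (homOfLE h).op (f₀ b))) =
          if b = a then (P).presheaf.map (homOfLE h).op (coordRatio 1 k (0 : Fin 2) 1 ^ (-d a).toNat) else 0 := by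
  classical
  let b₁ : Module.Basis (Fin r) (P).functionField (E.presheaf.stalk (gen 1 k)) :=
    Module.Basis.ofEquivFun (LinearEquiv.ofBijective _ (h₁ (gen 1 k) (gen_mem 1 k))).symm
  have hb₁ : ∀ b, b₁ b = γg (gen_mem 1 k) (f₁ b) := fun b => by
    simp [b₁, γg, Module.Basis.coe_ofEquivFun, Fintype.linearCombination_apply_single]
  let Φ := b₁.coord a
  have hΦ1 : ∀ b, Φ (γg (gen_mem 1 k) (f₁ b)) = if b = a then 1 else 0 := fun b => by
    rw [← hb₁ b]
    simp [Φ, Finsupp.single_apply]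
  have hΦ0 : ∀ b, Φ (γg (gen_mem 1 k) (f₀ b)) = if b = a then t 1 k 0 1 ^ (-d a).toNat else 0 := fun b => by
    have h : γg (gen_mem 1 k) (f₀ b) = t 1 k 0 1 ^ (-d b) • γg (gen_mem 1 k) (f₁ b) := by
      rw [hd b, smul_smul, ← zpow_add₀ (t_ne_zero 1 k 0 1), neg_add_cancel, zpow_zero, one_smul]
    rw [h, map_smul, hΦ1, smul_eq_mul]
    split_ifs with hba
    · subst hba
      rw [mul_one, ← zpow_natCast, Int.toNat_of_nonneg (by omega)]
    · rw [mul_zero]
  have hτ : (P).presheaf.germ U₀ (gen 1 k) (gen_mem 1 k) (coordRatio 1 k (0 : Fin 2) 1) = t 1 k 0 1 := rfl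
  have hex : ∀ (W : (P).Opens) (s : Γ(E, W)), ∃ g : Γ(P, W), ∀ hη : gen 1 k ∈ W,
      (P).presheaf.germ W (gen 1 k) hη g = Φ (γg hη s) := by
    intro W s
    obtain ⟨r₀, hr₀⟩ := (h₀.res (inf_le_right : W ⊓ U₀ ≤ U₀)).bijective.2 (E.presheaf.map (homOfLE inf_le_left).op s)
    obtain ⟨r₁, hr₁⟩ := (h₁.res (inf_le_right : W ⊓ U₁ ≤ U₁)).bijective.2 (E.presheaf.map (homOfLE inf_le_left).op s)
    rw [Fintype.linearCombination_apply] at hr₀ hr₁
    let g₀ : Γ(P, W ⊓ U₀) := r₀ a * (P).presheaf.map (homOfLE inf_le_right).op (coordRatio 1 k (0 : Fin 2) 1 ^ (-d a).toNat)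
    have hg₀ : ∀ hη : gen 1 k ∈ W ⊓ U₀, (P).presheaf.germ _ (gen 1 k) hη g₀ = Φ (γg hη.1 s) := fun hη => by
      have e := congrArg (γg hη) hr₀
      rw [linComb_germ] at e
      simp only [γg, TopCat.Presheaf.germ_res_apply] at e
      simp only [g₀, map_mul, germ_res_gen, map_pow, hτ]
      rw [show γg hη.1 s = _ from e.symm, map_sum, Finset.sum_eq_single a]
      · rw [map_smul, show Φ (E.presheaf.germ U₀ (gen 1 k) _ (f₀ a)) = _ from hΦ0 a, if_pos rfl, smul_eq_mul]
      · intro b _ hb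
        rw [map_smul, show Φ (E.presheaf.germ U₀ (gen 1 k) _ (f₀ b)) = _ from hΦ0 b, if_neg hb, smul_zero]
      · exact fun h' => absurd (Finset.mem_univ a) h'
    have hg₁ : ∀ hη : gen 1 k ∈ W ⊓ U₁, (P).presheaf.germ _ (gen 1 k) hη (r₁ a) = Φ (γg hη.1 s) := fun hη => by
      have e := congrArg (γg hη) hr₁
      rw [linComb_germ] at e
      simp only [γg, TopCat.Presheaf.germ_res_apply] at e
      rw [show γg hη.1 s = _ from e.symm, map_sum, Finset.sum_eq_single a]
      · rw [map_smul, show Φ (E.presheaf.germ U₁ (gen 1 k) _ (f₁ a)) = _ from hΦ1 a, if_pos rfl, smul_eq_mul, mul_one]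
      · intro b _ hb
        rw [map_smul, show Φ (E.presheaf.germ U₁ (gen 1 k) _ (f₁ b)) = _ from hΦ1 b, if_neg hb, smul_zero]
      · exact fun h' => absurd (Finset.mem_univ a) h'
    let U : ULift.{u} (Fin 2) → (P).Opens := fun i => W ⊓ stdOpen 1 k i.down
    let g : ∀ i, Γ(P, U i) := fun i =>
      match i with
      | ⟨0⟩ => g₀
      | ⟨1⟩ => r₁ a
    have hg : ∀ i (hη : gen 1 k ∈ U i), (P).presheaf.germ _ (gen 1 k) hη (g i) = Φ (γg hη.1 s) := fun i =>
      match i with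
      | ⟨0⟩ => hg₀
      | ⟨1⟩ => hg₁
    obtain ⟨G, hG, -⟩ := TopCat.Sheaf.existsUnique_gluing' (P).sheaf U W (fun _ => homOfLE inf_le_left)
      (fun x hx => by
        rcases mem_U₀_or_U₁ x with h | h
        · exact Opens.mem_iSup.2 ⟨⟨0⟩, hx, h⟩
        · exact Opens.mem_iSup.2 ⟨⟨1⟩, hx, h⟩) g (fun i j => germ_ext fun hη => by
        refine (germ_res_gen inf_le_left hη _).trans (Eq.trans ?_ (germ_res_gen inf_le_right hη _).symm)
        rw [hg i hη.1, hg j hη.2])
    refine ⟨G, fun hη => ?_⟩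
    rcases mem_U₀_or_U₁ (gen 1 k) with h | h
    · rw [← hg ⟨0⟩ ⟨hη, h⟩, ← hG ⟨0⟩]
      exact (germ_res_gen inf_le_left _ G).symm
    · rw [← hg ⟨1⟩ ⟨hη, h⟩, ← hG ⟨1⟩]
      exact (germ_res_gen inf_le_left _ G).symm
  choose g hg using hex
  have gadd : ∀ W s s', g W (s + s') = g W s + g W s' := fun W s s' => germ_ext fun hη => by
    simp only [map_add, hg, γg]
  obtain ⟨ψ, hψ⟩ := ProjBundleLib.exists_hom_of_affine (E := E) (N := Coh.structureModule P)
    (fun W => AddMonoidHom.mk' (fun s => (g W.1 s : Γ(P, W.1))) (gadd W.1))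
    (fun W hW r s => germ_ext (W := (P).basicOpen r) fun hη => by
      refine (germ_res_gen ((P).basicOpen_le r) hη _).trans ?_
      refine (hg W s _).trans (Eq.trans ?_ (hg _ _ hη).symm)
      exact congrArg Φ (TopCat.Presheaf.germ_res_apply E.presheaf (homOfLE ((P).basicOpen_le r)) _ hη s).symm)
    (fun W c s => germ_ext (W := W.1) fun hη => by
      refine (hg _ _ hη).trans (Eq.trans ?_ (map_mul _ c (g W.1 s)).symm)
      rw [hg, show γg hη (c • s) = _ from PresheafOfModules.germ_smul (R := (P).presheaf) E.val _ _ hη c s, map_smul]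
      rfl)
  have hval : ∀ (W : (P).Opens) (s : Γ(E, W)), (show Γ(P, W) from ψ.app W s) = g W s := by
    intro W s
    refine germ_ext fun hη => ?_
    obtain ⟨_, ⟨V, hV, rfl⟩, hηV, hVW⟩ := (P).isBasis_affineOpens.exists_subset_of_mem_open hη W.2
    have hVW' : V ≤ W := hVW
    rw [hg, ← germ_res_gen hVW' hηV (ψ.app W s : Γ(P, W))]
    have e : ((P).presheaf.map (homOfLE hVW').op (ψ.app W s : Γ(P, W)) : Γ(P, V)) =
        (g V (E.presheaf.map (homOfLE hVW').op s)) :=
      (ConcreteCategory.congr_hom (ψ.mapPresheaf.naturality (homOfLE hVW').op) s).symm.trans (hψ V hV _)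
    rw [e, hg]
    exact congrArg Φ (TopCat.Presheaf.germ_res_apply E.presheaf (homOfLE hVW') _ hηV s)
  refine ⟨ψ, fun W h b => ?_, fun W h b => ?_⟩
  · rw [hval]
    refine germ_ext fun hη => ?_
    rw [hg, show γg hη (E.presheaf.map (homOfLE h).op (f₁ b)) = γg (gen_mem 1 k) (f₁ b) from
      TopCat.Presheaf.germ_res_apply E.presheaf _ _ _ _, hΦ1]
    split_ifs
    · exact (map_one _).symm
    · exact (map_zero _).symm
  · rw [hval]
    refine germ_ext fun hη => ?_
    rw [hg, show γg hη (E.presheaf.map (homOfLE h).op (f₀ b)) = γg (gen_mem 1 k) (f₀ b) from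
      TopCat.Presheaf.germ_res_apply E.presheaf _ _ _ _, hΦ0]
    split_ifs
    · rw [map_pow, map_pow, germ_res_gen, hτ]
    · exact (map_zero _).symm

/-- A bundle without nonzero sections has negative exponents. -/
theorem neg_of_subsingleton {E : (P).Modules} {r : ℕ} {d : Fin r → ℤ} (h0 : Subsingleton Γ(E, (⊤ : (P).Opens))) (f₀ : Fin r → Γ(E, U₀)) (f₁ : Fin r → Γ(E, U₁))
    (h₀ : IsFrame U₀ f₀) (h₁ : IsFrame U₁ f₁)
    (hd : ∀ a, γg (gen_mem 1 k) (f₁ a) = t 1 k 0 1 ^ d a • γg (gen_mem 1 k) (f₀ a)) (a : Fin r) : d a < 0 := by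
  classical
  by_contra hcon
  rw [not_lt] at hcon
  let τ := coordRatio 1 k (0 : Fin 2) 1 ^ (d a).toNat
  let W := U₀ ⊓ U₁
  have hW : ∀ (s s' : Γ(E, W)), γg (show gen 1 k ∈ W from gen_mem_W) s = γg gen_mem_W s' → s = s' := fun s s' h => by
    have hf := h₀.res (inf_le_left : W ≤ U₀)
    obtain ⟨c, rfl⟩ := hf.bijective.2 s
    obtain ⟨c', rfl⟩ := hf.bijective.2 s'
    rw [Fintype.linearCombination_apply, Fintype.linearCombination_apply, linComb_germ, linComb_germ] at h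
    exact congrArg _ (funext fun b => germ_ext fun hη => congrFun (coeff_eq hf h) b)
  let U : ULift.{u} (Fin 2) → (P).Opens := fun i => stdOpen 1 k i.down
  let g : ∀ i, Γ(E, U i) := fun i =>
    match i with
    | ⟨0⟩ => τ • f₀ a
    | ⟨1⟩ => f₁ a
  have key : E.presheaf.map (homOfLE (inf_le_left : W ≤ U₀)).op (τ • f₀ a) =
      E.presheaf.map (homOfLE (inf_le_right : W ≤ U₁)).op (f₁ a) := hW _ _ (by
    refine (TopCat.Presheaf.germ_res_apply E.presheaf _ _ _ _).trans (Eq.trans ?_ (TopCat.Presheaf.germ_res_apply E.presheaf _ _ _ _).symm)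
    refine (PresheafOfModules.germ_smul (R := (P).presheaf) E.val _ _ _ τ (f₀ a)).trans ?_
    refine Eq.trans ?_ (hd a).symm
    show (P).presheaf.germ U₀ (gen 1 k) _ τ • _ = _
    rw [show (P).presheaf.germ U₀ (gen 1 k) (gen_mem 1 k) τ = t 1 k 0 1 ^ (d a).toNat from map_pow _ _ _,
      ← zpow_natCast, Int.toNat_of_nonneg hcon]
    rfl)
  obtain ⟨G, hG, -⟩ := TopCat.Sheaf.existsUnique_gluing' (⟨E.presheaf, E.isSheaf⟩ : TopCat.Sheaf Ab.{u} (P).carrier) U ⊤
    (fun _ => homOfLE le_top) (fun x _ => by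
      rcases mem_U₀_or_U₁ x with h | h
      · exact Opens.mem_iSup.2 ⟨⟨0⟩, h⟩
      · exact Opens.mem_iSup.2 ⟨⟨1⟩, h⟩) g (fun i j => by
      match i, j with
      | ⟨0⟩, ⟨0⟩ => rfl
      | ⟨1⟩, ⟨1⟩ => rfl
      | ⟨0⟩, ⟨1⟩ => exact key
      | ⟨1⟩, ⟨0⟩ =>
        have h := congrArg (E.presheaf.map (homOfLE (show U₁ ⊓ U₀ ≤ W from inf_comm _ _ |>.le)).op) key.symm
        exact (ParaFLib.res_res (L := E) _ _ (f₁ a)).symm.trans (h.trans (ParaFLib.res_res (L := E) _ _ (τ • f₀ a))))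
  have h1 : E.presheaf.map (homOfLE (le_top : U₁ ≤ ⊤)).op G = f₁ a := hG ⟨1⟩
  rw [@Subsingleton.elim _ h0 G 0, map_zero] at h1
  have h2 := congrArg (fun c : Fin r → Γ(P, U₁) => c a) (h₁.bijective.1 (a₁ := Pi.single a 1) (a₂ := 0)
    (by simp [Fintype.linearCombination_apply_single, ← h1]))
  simp only [Pi.single_eq_same, Pi.zero_apply] at h2
  exact one_ne_zero ((map_one ((P).presheaf.germ U₁ (gen 1 k) (gen_mem 1 k)).hom).symm.trans
    ((congrArg _ h2).trans (map_zero _)))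

end Groth.Agent.JetVanLib.P1
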